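import Groth.Agent.AlgSt.K749.HilbE
import Groth.Agent.AlgSt.K738.RepSep
import Groth.Agent.AlgSt.K737.RepW
import Groth.Agent.AlgSt.K734.Atlas
import Groth.Agent.S12768
import Groth.Agent.AlgSt.K742.Aff
import Groth.Agent.AlgSp.K597.Proper
/-!
# The scheme `Z`, and the conclusion of S18338
-/

set_option autoImplicit false
set_option backward.isDefEq.respectTransparency false
set_option backward.isDefEq.respectTransparency.types false

universe w' v' w v u

open CategoryTheory CategoryTheory.Limits AlgebraicGeometry Opposite K735.Fib K735.Fp AlgSp K899.OpenCrit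

namespace K749.Hilb

noncomputable section

variable {S : Scheme.{u}} {𝒳 : AlgSt.Cat S} {V : Over S}

namespace Dat

variable {v : FibCat.overCat V ⥤ᵇ 𝒳} (d : Dat v)

/-- `V ×_𝒳 𝒲` is a scheme, étale and separated over `V`. -/
theorem exists_P : ∃ (W : Over S) (w : W ⟶ V) (κ : FibCat.overCat W ⥤ᵇ d.P), FibCat.IsEquivOver κ ∧
    IsSeparated w.left := by
  obtain ⟨R⟩ := d.X.secRep_W v
  have h1 : LocP (@LocallyQuasiFinite ⊓ @LocallyOfFiniteType) (d.X.comap v).proj := K597.locP_mono (fun A B f hf => by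
    have := hf
    exact ⟨K597.locallyQuasiFinite_of_etale f, inferInstance⟩) (K597.locP_etale_of_isEtaleMor (d.X.comap v).isEtaleMor_proj)
  obtain ⟨W, i, w, hw⟩ := exists_iso_yon (F := ⟨(d.X.comap v).E, (d.X.comap v).isAlgSpace⟩) h1
    (d.X.comap v).isSeparatedMor_proj
  obtain ⟨e, he, -⟩ := (secRepOfIso R i ((yon S).map w) hw).exists_equiv
  refine ⟨W, w, BasedFunctor.comp (AlgSt.ofOverCat W) e,
    K734.Fib.isEquivOver_comp (K735.Rep.isEquivOver_ofOverCat W) he, ?_⟩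
  have h2 : IsSeparatedMor ((yon S).map w) :=
    (MorphismProperty.cancel_left_of_respectsIso IsSeparatedMor i.hom _).1 (by
      rw [hw]; exact (d.X.comap v).isSeparatedMor_proj)
  exact (isSeparatedMor_yon_map_iff w).1 h2

/-- The universal finite open piece is a scheme, separated over `V`. -/
theorem exists_Z : ∃ (Z : Over S) (t : Z ⟶ V) (e : FibCat.overCat Z ⥤ᵇ d.Zc), FibCat.IsEquivOver e ∧
    IsSeparated t.left := by
  obtain ⟨W, w, κ, hκ, hw⟩ := d.exists_P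
  obtain ⟨F, e, he, h⟩ := d.isOpenImm_incl W κ
  obtain ⟨Z, ⟨i⟩⟩ := K737.RepW.exists_yon_iso _ h
  have hi : RepWith @IsOpenImmersion (i.hom ≫ AlgSt.spMapOfOver (BasedFunctor.comp e (FibCat.fpFst κ d.incl))) :=
    (MorphismProperty.cancel_left_of_respectsIso _ i.hom _).2 h
  obtain ⟨z, hz⟩ := (yon S).map_surjective
    (i.hom ≫ AlgSt.spMapOfOver (BasedFunctor.comp e (FibCat.fpFst κ d.incl)))
  rw [← hz] at hi
  have hz' : IsOpenImmersion z.left := (repWith_yon_map_iff _ z).1 hi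
  refine ⟨Z, z ≫ w, BasedFunctor.comp (BasedFunctor.comp (BasedFunctor.comp (AlgSt.ofOverCat Z)
    (AlgSt.ofSpMap i.hom)) e) (FibCat.fpSnd κ d.incl), ?_, ?_⟩
  · refine K734.Fib.isEquivOver_comp (K734.Fib.isEquivOver_comp (K734.Fib.isEquivOver_comp
      (K735.Rep.isEquivOver_ofOverCat Z) ?_) he) (K734.Fib.isEquivOver_fpSnd κ d.incl hκ)
    exact (K734.Rep.isEquivOver_ofSpMap_iff i.hom).2 inferInstance
  · change IsSeparated (z.left ≫ w.left)
    infer_instance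

/-- The universal finite open piece is finite, flat, locally of finite presentation and surjective over `𝒲`. -/
theorem repByAlgSpWith_incl_fpSnd : AlgSt.RepByAlgSpWith
    (IsFiniteMor ⊓ LocP (@Flat ⊓ @LocallyOfFinitePresentation) ⊓ IsSurjectiveMor)
    (BasedFunctor.comp d.incl (FibCat.fpSnd v d.X.Wf)) := by
  refine K738.repByAlgSpWith_of_secRep fun U t => ?_
  refine ⟨⟨(yon S).obj (d.Ot t), IsAlgSpace.yon_obj _⟩, (yon S).map (d.ωt t), ?_, d.secRep_incl t⟩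
  have hA : IsIso (eqToHom (d.h0 t)).left := inferInstanceAs (IsIso ((Over.forget S).map (eqToHom (d.h0 t))))
  have hω : (d.ωt t).left = ((d.τ t).Z.1.ι ≫ d.X.π (d.τ t).x) ≫ (eqToHom (d.h0 t)).left := by
    rw [Category.assoc]
    rfl
  have f1 : IsFinite ((d.τ t).Z.1.ι ≫ d.X.π (d.τ t).x) := (d.τ t).Z.2.fin
  have f2 : Surjective ((d.τ t).Z.1.ι ≫ d.X.π (d.τ t).x) := (d.τ t).Z.2.surj
  have f3 : Flat (d.X.π (d.τ t).x) := d.X.flat _
  have f4 : LocallyOfFinitePresentation (d.X.π (d.τ t).x) := d.X.lfp _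
  refine ⟨⟨?_, K597.locP_inf_iff.2 ⟨?_, ?_⟩⟩, ?_⟩
  · rw [K742.Aff.isFiniteMor_iff, repWith_yon_map_iff, hω]
    infer_instance
  · rw [locP_yon_etLoc K597.etLoc_flat, hω]
    infer_instance
  · rw [locP_yon_etLoc K597.etLoc_lfp, hω]
    infer_instance
  · refine K744.TorsProp.surj_yon _ ?_
    rw [hω]
    infer_instance

end Dat

/-- S18338 for a separated `v`. -/
theorem main (h𝒳 : AlgSt.IsAlgStack Scheme.fppfPrecoverage 𝒳) [IsSeparated V.hom] {v : FibCat.overCat V ⥤ᵇ 𝒳}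
    (d : Dat v) (hs : ∀ x, Surjective (str₀ v (d.r x).a).left) :
    ∃ (𝒲 : AlgSt.Cat S) (h : 𝒲 ⥤ᵇ 𝒳) (Z : Over S) (z : FibCat.overCat Z ⥤ᵇ FibCat.fp v h),
      AlgSt.IsAlgStack Scheme.fppfPrecoverage 𝒲 ∧ AlgSt.IsSeparatedOver 𝒲 ∧
      AlgSt.RepByAlgSpWith (AlgSp.IsEtaleMor ⊓ AlgSp.IsSurjectiveMor ⊓ AlgSp.IsSeparatedMor) h ∧
      AlgSt.IsOpenImm z ∧
      AlgSt.RepByAlgSpWith (AlgSp.IsFiniteMor ⊓ AlgSp.LocP (@Flat ⊓ @LocallyOfFinitePresentation) ⊓
        AlgSp.IsSurjectiveMor) (BasedFunctor.comp z (FibCat.fpSnd v h)) := by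
  obtain ⟨Z, t, e, he, ht⟩ := d.exists_Z
  have hW : FibCat.IsFibGrpd d.X.W.p := d.X.isFibGrpd_W d.h𝒳
  have hWf := d.X.repByAlgSpWith_Wf hs
  have hWa : AlgSt.IsAlgStack Scheme.fppfPrecoverage d.X.W :=
    Groth.Agent.S12768.result hW h𝒳 d.X.Wf (K739.Alg.repByAlgSp1_of hWf)
  have hz : AlgSt.RepByAlgSpWith (IsFiniteMor ⊓ LocP (@Flat ⊓ @LocallyOfFinitePresentation) ⊓ IsSurjectiveMor)
      (BasedFunctor.comp (BasedFunctor.comp e d.incl) (FibCat.fpSnd v d.X.Wf)) :=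
    (K734.Rep.repByAlgSpWith_precomp_iff he _).2 d.repByAlgSpWith_incl_fpSnd
  refine ⟨d.X.W, d.X.Wf, Z, BasedFunctor.comp e d.incl, hWa, ?_, hWf,
    (K734.Rep.repByAlgSpWith_precomp_iff he _).2 d.isOpenImm_incl, hz⟩
  have hZ : IsSeparated Z.hom := by
    rw [← Over.w t]
    infer_instance
  let p := BasedFunctor.comp (BasedFunctor.comp e d.incl) (FibCat.fpSnd v d.X.Wf)
  have h1 : AlgSt.RepByAlgSpWith IsSeparatedMor (BasedFunctor.comp p (FibCat.toSelf d.X.W)) :=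
    repByAlgSpWith_sep_of_isSeparated _
  have h2 : AlgSt.IsSeparatedMor (BasedFunctor.comp p (FibCat.toSelf d.X.W)) :=
    ((K738.tfae_separated (K739.Alg.repByAlgSp1_of h1)).out 0 2).1 h1
  refine K739.ChartDiag.repByAlgSpWith_diag_of_chart K739.Props.bc_proper K739.Props.comp_proper
    (K739.Props.isLocalOnBase_fppf_of_fpqc (Groth.Agent.S10536.result S)) (K735.Fp.isFibGrpd_overCat Z) hW
    K735.Fp.isFibGrpd_selfOver p (FibCat.toSelf d.X.W) hWa.diag ?_ ?_ ?_ ?_ h2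
  · exact K739.Alg.repByAlgSpWith_mono (fun _ _ _ h => K597.locP_mono (fun A B f hf => hf.1) h.1.2) hz
  · exact K739.Alg.repByAlgSpWith_mono (fun _ _ _ h => K597.locP_mono (fun A B f hf => hf.2) h.1.2) hz
  · exact K739.Alg.repByAlgSpWith_mono (fun _ _ _ h => h.2) hz
  · exact K740.SpIso.repByAlgSpWith_imp hz fun F U q h =>
      ((K597.Proper.isFiniteMor_iff_affine_proper (IsAlgSpace.yon_obj U)).1 h.1.1).2

end

end K749.Hilb
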