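import Groth.Agent.AlgSt.K749.HilbB
/-!
# The stack of finite open pieces of a cartesian family of schemes over a category fibred in groupoids
-/

set_option autoImplicit false
set_option backward.isDefEq.respectTransparency false
set_option backward.isDefEq.respectTransparency.types false

universe w' v' w v u

open CategoryTheory CategoryTheory.Limits AlgebraicGeometry Opposite K735.Fib K735.Fp AlgSp

namespace K749.Clopen.Fam

variable {S : Scheme.{u}} {𝒳 : AlgSt.Cat S} (X : Fam 𝒳.p)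

noncomputable section

/-- Objects: an object of `𝒳` with a finite open piece. -/
structure WObj where
  x : 𝒳.obj
  Z : X.D x

namespace WObj

variable {X}

@[ext]
structure Hom (a b : WObj X) where
  hom : a.x ⟶ b.x
  res : X.res hom b.Z = a.Z

instance : Category (WObj X) where
  Hom := Hom
  id a := ⟨𝟙 a.x, X.res_id a.Z⟩
  comp f g := ⟨f.hom ≫ g.hom, by rw [← X.res_res, g.res, f.res]⟩
  id_comp f := Hom.ext (Category.id_comp _)
  comp_id f := Hom.ext (Category.comp_id _)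
  assoc f g h := Hom.ext (Category.assoc _ _ _)

@[ext] theorem hom_ext {a b : WObj X} {f g : a ⟶ b} (h : f.hom = g.hom) : f = g := Hom.ext h

@[simp] theorem id_hom (a : WObj X) : (𝟙 a : a ⟶ a).hom = 𝟙 a.x := rfl

@[simp] theorem comp_hom {a b c : WObj X} (f : a ⟶ b) (g : b ⟶ c) : (f ≫ g).hom = f.hom ≫ g.hom := rfl

variable (X) in
def forget : WObj X ⥤ 𝒳.obj where
  obj a := a.x
  map f := f.hom

end WObj

/-- The stack of finite open pieces. -/
def W : AlgSt.Cat S where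
  obj := WObj X
  p := WObj.forget X ⋙ 𝒳.p

/-- Its functor to `𝒳`. -/
def Wf : X.W ⥤ᵇ 𝒳 where
  toFunctor := WObj.forget X
  w := rfl

theorem isFibGrpd_W (h𝒳 : FibCat.IsFibGrpd 𝒳.p) : FibCat.IsFibGrpd X.W.p := by
  refine isFibGrpd_mk ?_ ?_ ?_
  · intro a V f
    obtain ⟨y, φ, e, h⟩ := exists_lift h𝒳 (x := a.x) f
    exact ⟨⟨y, X.res φ a.Z⟩, ⟨φ, rfl⟩, e, h⟩
  · intro a b c φ ψ g w
    obtain ⟨χ, h1, h2⟩ := exists_hom h𝒳 φ.hom ψ.hom g w
    refine ⟨⟨χ, ?_⟩, h1, WObj.hom_ext h2⟩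
    rw [← φ.res, X.res_res, h2, ψ.res]
  · intro a b c φ χ χ' h1 h2
    exact WObj.hom_ext (hom_ext' h𝒳 φ.hom h1 (congrArg (fun t => t.hom) h2))

section comap

variable {U : Over S} (y : FibCat.overCat U ⥤ᵇ 𝒳)

theorem isPullback_comap {A B : Over U} (f : A ⟶ B) : IsPullback (X.X.map (y.map f))
    (X.π (y.obj A) ≫ (eqToHom (y.w_obj A)).left) (X.π (y.obj B) ≫ (eqToHom (y.w_obj B)).left) f.left.left := by
  have h1 := X.sq (y.map f)
  have h2 : (𝒳.p.map (y.map f)).left ≫ (eqToHom (y.w_obj B)).left = (eqToHom (y.w_obj A)).left ≫ f.left.left := by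
    rw [← Over.comp_left, map_map, ← Over.comp_left]
    congr 1
    simp
    rfl
  have i1 : IsIso (eqToHom (y.w_obj A)).left := inferInstanceAs (IsIso ((Over.forget S).map (eqToHom (y.w_obj A))))
  have i2 : IsIso (eqToHom (y.w_obj B)).left := inferInstanceAs (IsIso ((Over.forget S).map (eqToHom (y.w_obj B))))
  exact h1.paste_vert (IsPullback.of_vert_isIso ⟨h2⟩)

/-- The restriction of a family along `y : (Sch/U) ⟶ 𝒳`. -/
def comap : Fam (Over.forget U) where
  X := y.toFunctor ⋙ X.X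
  π A := X.π (y.obj A) ≫ (eqToHom (y.w_obj A)).left
  sq f := X.isPullback_comap y f
  flat A := by
    have i1 : IsIso (eqToHom (y.w_obj A)).left := inferInstanceAs (IsIso ((Over.forget S).map (eqToHom (y.w_obj A))))
    have := X.flat (y.obj A)
    exact inferInstanceAs (Flat (X.π (y.obj A) ≫ (eqToHom (y.w_obj A)).left))
  lfp A := by
    have i1 : IsIso (eqToHom (y.w_obj A)).left := inferInstanceAs (IsIso ((Over.forget S).map (eqToHom (y.w_obj A))))
    have := X.lfp (y.obj A)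
    exact inferInstanceAs (LocallyOfFinitePresentation (X.π (y.obj A) ≫ (eqToHom (y.w_obj A)).left))
  lqf A := by
    have i1 : IsIso (eqToHom (y.w_obj A)).left := inferInstanceAs (IsIso ((Over.forget S).map (eqToHom (y.w_obj A))))
    have := X.lqf (y.obj A)
    exact inferInstanceAs (LocallyQuasiFinite (X.π (y.obj A) ≫ (eqToHom (y.w_obj A)).left))
  sep A := by
    have i1 : IsIso (eqToHom (y.w_obj A)).left := inferInstanceAs (IsIso ((Over.forget S).map (eqToHom (y.w_obj A))))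
    have := X.sep (y.obj A)
    exact inferInstanceAs (IsSeparated (X.π (y.obj A) ≫ (eqToHom (y.w_obj A)).left))

theorem FO_comap_iff (A : Over U) (Z : (X.X.obj (y.obj A)).Opens) :
    FO ((X.comap y).π A) Z ↔ FO (X.π (y.obj A)) Z := by
  have i1 : IsIso (eqToHom (y.w_obj A)).left := inferInstanceAs (IsIso ((Over.forget S).map (eqToHom (y.w_obj A))))
  have key : Z.ι ≫ (X.comap y).π A = (Z.ι ≫ X.π (y.obj A)) ≫ (eqToHom (y.w_obj A)).left := (Category.assoc _ _ _).symm
  constructor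
  · intro h
    refine ⟨?_, ?_⟩
    · have := h.fin
      rw [key] at this
      exact (MorphismProperty.cancel_right_of_respectsIso @IsFinite _ _).1 this
    · have := h.surj
      rw [key] at this
      exact (MorphismProperty.cancel_right_of_respectsIso @Surjective _ _).1 this
  · intro h
    refine ⟨?_, ?_⟩
    · rw [key]
      exact (MorphismProperty.cancel_right_of_respectsIso @IsFinite _ _).2 h.fin
    · rw [key]
      exact (MorphismProperty.cancel_right_of_respectsIso @Surjective _ _).2 h.surj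

/-- Comparison of pieces. -/
def toD {A : Over U} (Z : X.D (y.obj A)) : (X.comap y).D A := ⟨Z.1, (X.FO_comap_iff y A Z.1).2 Z.2⟩
def ofD {A : Over U} (Z : (X.comap y).D A) : X.D (y.obj A) := ⟨Z.1, (X.FO_comap_iff y A Z.1).1 Z.2⟩

@[simp] theorem toD_ofD {A : Over U} (Z : (X.comap y).D A) : X.toD y (X.ofD y Z) = Z := rfl
@[simp] theorem ofD_toD {A : Over U} (Z : X.D (y.obj A)) : X.ofD y (X.toD y Z) = Z := rfl

theorem toD_res {A B : Over U} (f : A ⟶ B) (Z : X.D (y.obj B)) :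
    (X.comap y).res f (X.toD y Z) = X.toD y (X.res (y.map f) Z) := rfl

theorem toD_injective {A : Over U} {Z Z' : X.D (y.obj A)} (h : X.toD y Z = X.toD y Z') : Z = Z' :=
  congrArg (X.ofD y) h

/-- The section of the sheaf of finite open pieces attached to an object of the fibre product. -/
def secW (z : (FibCat.fp y X.Wf).obj) : (X.comap y).ESec z.obj.fst.left :=
  ⟨z.obj.fst.hom, X.toD y (A := z.obj.fst) (X.res z.obj.iso.hom z.obj.snd.Z)⟩

theorem secW_map {z z' : (FibCat.fp y X.Wf).obj} (c : z.obj.fst ⟶ z'.obj.fst)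
    (h : X.res (y.map c ≫ z'.obj.iso.hom) z'.obj.snd.Z = X.res z.obj.iso.hom z.obj.snd.Z) :
    (X.secW y z').map c.left = X.secW y z := by
  rw [ESec.eq_iff]
  refine ⟨Over.w c, fun A φ φ' hφ => ?_⟩
  change (X.comap y).res φ ((X.comap y).res _ (X.toD y (X.res z'.obj.iso.hom z'.obj.snd.Z))) =
    (X.comap y).res φ' (X.toD y (X.res z.obj.iso.hom z.obj.snd.Z))
  rw [res_res, ← h]
  refine (X.toD_res y (B := z'.obj.fst) _ _).trans (Eq.trans ?_ (X.toD_res y (B := z.obj.fst) φ' _).symm)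
  congr 1
  rw [res_res, res_res, ← Category.assoc, ← y.map_comp]
  congr 3
  apply Over.OverMorphism.ext
  change φ.left ≫ c.left = φ'.left ≫ c.left
  rw [hφ]

theorem exists_of_secW_map {z z' : (FibCat.fp y X.Wf).obj} (g : z.obj.fst.left ⟶ z'.obj.fst.left)
    (h : (X.secW y z').map g = X.secW y z) : ∃ c : z.obj.fst ⟶ z'.obj.fst, c.left = g ∧
      X.res (y.map c ≫ z'.obj.iso.hom) z'.obj.snd.Z = X.res z.obj.iso.hom z.obj.snd.Z := by
  rw [ESec.eq_iff] at h
  obtain ⟨h1, h2⟩ := h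
  change g ≫ z'.obj.fst.hom = z.obj.fst.hom at h1
  let c : z.obj.fst ⟶ z'.obj.fst := Over.homMk g h1
  refine ⟨c, rfl, ?_⟩
  have h3 := h2 z.obj.fst (Over.homMk (𝟙 _) (by
    change 𝟙 _ ≫ g ≫ z'.obj.fst.hom = z.obj.fst.hom
    rw [Category.id_comp, h1])) (𝟙 z.obj.fst) rfl
  change (X.comap y).res _ ((X.comap y).res _ (X.toD y (X.res z'.obj.iso.hom z'.obj.snd.Z))) =
    (X.comap y).res _ (X.toD y (X.res z.obj.iso.hom z.obj.snd.Z)) at h3
  rw [res_res] at h3
  have h4 := ((X.toD_res y (B := z'.obj.fst) _ _).symm.trans h3).trans (X.toD_res y (B := z.obj.fst) (𝟙 z.obj.fst) _)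
  have h5 := X.toD_injective y h4
  rw [res_res, res_res, y.map_id] at h5
  refine Eq.trans ?_ (h5.trans (congrArg (fun t => X.res t z.obj.snd.Z) (Category.id_comp z.obj.iso.hom)))
  congr 3

theorem secRep_W : Nonempty (K738.SecRep (FibCat.fpFst y X.Wf) (X.comap y).E (X.comap y).proj) := by
  refine ⟨⟨fun z => ⟨X.secW y z⟩, ?_, ?_, ?_, ?_, ?_⟩⟩
  · intro z z' m
    apply ULift.ext
    refine X.secW_map y m.hom.fst ?_
    have h1 : y.map m.hom.fst ≫ z'.obj.iso.hom = z.obj.iso.hom ≫ m.hom.snd.hom := fp_w m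
    rw [h1, ← res_res, m.hom.snd.res]
  · intro z z' g hg
    have hg' : (X.secW y z').map g = X.secW y z := congrArg ULift.down hg
    obtain ⟨c, rfl, hc⟩ := X.exists_of_secW_map y g hg'
    let b : z.obj.snd ⟶ z'.obj.snd := ⟨z.obj.iso.inv ≫ y.map c ≫ z'.obj.iso.hom, by
      rw [← res_res, hc, res_res, Iso.inv_hom_id, res_id]⟩
    refine ⟨homFp c b ?_, rfl⟩
    change y.map c ≫ z'.obj.iso.hom = z.obj.iso.hom ≫ z.obj.iso.inv ≫ y.map c ≫ z'.obj.iso.hom
    rw [Iso.hom_inv_id_assoc]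
  · intro z z' m m' h
    have h1 : m.hom.fst = m'.hom.fst := Over.OverMorphism.ext h
    refine fp_hom_ext h1 (WObj.hom_ext ?_)
    have e1 : y.map m.hom.fst ≫ z'.obj.iso.hom = z.obj.iso.hom ≫ m.hom.snd.hom := fp_w m
    have e2 : y.map m'.hom.fst ≫ z'.obj.iso.hom = z.obj.iso.hom ≫ m'.hom.snd.hom := fp_w m'
    rw [← cancel_epi z.obj.iso.hom, ← e1, ← e2, h1]
  · rintro T ⟨s⟩
    let z : (FibCat.fp y X.Wf).obj := mkFp y X.Wf (Over.mk s.t) ⟨y.obj (Over.mk s.t), X.ofD y s.Z⟩ (Iso.refl _)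
      (vert_id _)
    refine ⟨z, rfl, ?_⟩
    apply ULift.ext
    change (X.secW y z).map (𝟙 T) = s
    rw [ESec.map_id]
    refine ESec.ext_hm rfl ?_
    change X.toD y (X.res (𝟙 _) (X.ofD y s.Z)) = (X.comap y).res (𝟙 _) s.Z
    rw [res_id, res_id]
    rfl
  · intro z
    apply ULift.ext
    change z.obj.fst.hom = 𝟙 _ ≫ z.obj.fst.hom
    rw [Category.id_comp]

end comap

/-- The stack of finite open pieces is étale and separated over `𝒳`, and surjective if the family is. -/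
theorem repByAlgSpWith_Wf (hs : ∀ a, Surjective (X.π a)) :
    AlgSt.RepByAlgSpWith (AlgSp.IsEtaleMor ⊓ AlgSp.IsSurjectiveMor ⊓ AlgSp.IsSeparatedMor) X.Wf := by
  refine K738.repByAlgSpWith_of_secRep fun U y => ?_
  refine ⟨⟨(X.comap y).E, (X.comap y).isAlgSpace⟩, (X.comap y).proj, ⟨⟨(X.comap y).isEtaleMor_proj, ?_⟩,
    (X.comap y).isSeparatedMor_proj⟩, X.secRep_W y⟩
  refine (X.comap y).isSurjectiveMor_proj ?_
  have i1 : IsIso (eqToHom (y.w_obj (Over.mk (𝟙 U)))).left :=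
    inferInstanceAs (IsIso ((Over.forget S).map (eqToHom (y.w_obj (Over.mk (𝟙 U))))))
  have := hs (y.obj (Over.mk (𝟙 U)))
  exact inferInstanceAs (Surjective (X.π (y.obj (Over.mk (𝟙 U))) ≫ (eqToHom (y.w_obj (Over.mk (𝟙 U)))).left))

end

end K749.Clopen.Fam
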