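import Mathlib.AlgebraicGeometry.Morphisms.Flat
import Mathlib.AlgebraicGeometry.Morphisms.FlatDescent
import Mathlib.AlgebraicGeometry.Morphisms.LocalFlatDescent
import Mathlib.AlgebraicGeometry.Morphisms.Finite
import Mathlib.AlgebraicGeometry.Morphisms.Proper
import Mathlib.AlgebraicGeometry.Morphisms.Separated
import Mathlib.AlgebraicGeometry.Morphisms.ClosedImmersion
import Groth.Agent.S0084
import Groth.Agent.Flat2G.FibreDegreeE
/-!
# Open subschemes which are finite over the base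

For `f : X ⟶ T` separated, flat and locally of finite presentation, the open subschemes `Z` of `X` with
`Z ⟶ T` finite (and surjective): base change, closedness, fppf descent, the clopen locus of `T` where two of them agree.
-/

set_option autoImplicit false

universe u

open CategoryTheory CategoryTheory.Limits AlgebraicGeometry TopologicalSpace

namespace K749.Clopen

/-- The open subscheme `Z` is finite and surjective over the base. -/
structure FO {X T : Scheme.{u}} (f : X ⟶ T) (Z : X.Opens) : Prop where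
  fin : IsFinite (Z.ι ≫ f)
  surj : Surjective (Z.ι ≫ f)

variable {X T X' T' : Scheme.{u}} {f : X ⟶ T} {f' : X' ⟶ T'} {h : X' ⟶ X} {g : T' ⟶ T}

/-- The restriction of a pullback square to an open subscheme. -/
theorem isPullback_restrict (sq : IsPullback h f' f g) (Z : X.Opens) :
    IsPullback (h ∣_ Z) ((h ⁻¹ᵁ Z).ι ≫ f') (Z.ι ≫ f) g :=
  (isPullback_morphismRestrict h Z).paste_vert sq

theorem FO.pullback {Z : X.Opens} (hZ : FO f Z) (sq : IsPullback h f' f g) : FO f' (h ⁻¹ᵁ Z) where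
  fin := MorphismProperty.of_isPullback (P := @IsFinite) (isPullback_restrict sq Z) hZ.fin
  surj := MorphismProperty.of_isPullback (P := @Surjective) (isPullback_restrict sq Z) hZ.surj

theorem isFinite_pullback {Z : X.Opens} (hZ : IsFinite (Z.ι ≫ f)) (sq : IsPullback h f' f g) :
    IsFinite ((h ⁻¹ᵁ Z).ι ≫ f') :=
  MorphismProperty.of_isPullback (P := @IsFinite) (isPullback_restrict sq Z) hZ

theorem isClosed_of_isFinite [IsSeparated f] {Z : X.Opens} (hZ : IsFinite (Z.ι ≫ f)) :
    IsClosed (Z : Set X) := by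
  have : UniversallyClosed (Z.ι ≫ f) := inferInstance
  have : UniversallyClosed Z.ι := .of_comp_of_isSeparated Z.ι f
  have h1 := Z.ι.isClosedMap.isClosed_range
  rwa [Scheme.Opens.range_ι] at h1

/-- Image in the base of a clopen subset contained in a finite open. -/
theorem isClopen_image [Flat f] [LocallyOfFinitePresentation f] {Z : X.Opens} (hZ : IsFinite (Z.ι ≫ f))
    {A : Set X} (hA : IsOpen A) (hA' : IsClosed A) (hAZ : A ⊆ Z) : IsClopen (f '' A) := by
  refine ⟨?_, f.isOpenMap A hA⟩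
  have h1 : f '' A = (Z.ι ≫ f) '' (Z.ι ⁻¹' A) := by
    ext t
    constructor
    · rintro ⟨x, hx, rfl⟩
      exact ⟨⟨x, hAZ hx⟩, hx, Scheme.Hom.comp_apply _ _ _⟩
    · rintro ⟨x, hx, rfl⟩
      exact ⟨x.1, hx, (Scheme.Hom.comp_apply Z.ι f x).symm⟩
  rw [h1]
  exact (Z.ι ≫ f).isClosedMap _ (hA'.preimage Z.ι.continuous)

/-- The subset of the base over which two finite opens differ. -/
def diffSet (f : X ⟶ T) (Z Z' : X.Opens) : Set T := f '' ((Z : Set X) \ Z') ∪ f '' ((Z' : Set X) \ Z)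

theorem isClopen_diffSet [Flat f] [LocallyOfFinitePresentation f] [IsSeparated f] {Z Z' : X.Opens}
    (hZ : IsFinite (Z.ι ≫ f)) (hZ' : IsFinite (Z'.ι ≫ f)) : IsClopen (diffSet f Z Z') := by
  have c := isClosed_of_isFinite hZ
  have c' := isClosed_of_isFinite hZ'
  refine (isClopen_image hZ ?_ ?_ Set.sdiff_subset).union (isClopen_image hZ' ?_ ?_ Set.sdiff_subset)
  · exact Z.isOpen.sdiff c'
  · exact c.sdiff Z'.isOpen
  · exact Z'.isOpen.sdiff c
  · exact c'.sdiff Z.isOpen

theorem preimage_eq_iff (sq : IsPullback h f' f g) (Z Z' : X.Opens) :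
    h ⁻¹ᵁ Z = h ⁻¹ᵁ Z' ↔ Disjoint (Set.range g) (diffSet f Z Z') := by
  have key : ∀ (W W' : X.Opens), (h ⁻¹ᵁ W ≤ h ⁻¹ᵁ W' ↔ Disjoint (Set.range g) (f '' ((W : Set X) \ W'))) := by
    intro W W'
    rw [Set.disjoint_iff_forall_ne]
    constructor
    · rintro hle _ ⟨t', rfl⟩ _ ⟨x, ⟨hx, hx'⟩, rfl⟩ heq
      obtain ⟨x', hx1, -⟩ := Scheme.exists_preimage_of_isPullback sq x t' heq.symm
      have h2 : x' ∈ h ⁻¹ᵁ W := by
        change h x' ∈ W
        rw [hx1]; exact hx
      have h3 : h x' ∈ W' := hle h2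
      rw [hx1] at h3
      exact hx' h3
    · intro hd x' hx'
      by_contra hc
      refine hd (Set.mem_range_self (f' x')) (Set.mem_image_of_mem f ⟨hx', hc⟩) ?_
      rw [← Scheme.Hom.comp_apply, ← Scheme.Hom.comp_apply, sq.w]
  rw [le_antisymm_iff, key, key, diffSet, Set.disjoint_union_right]

/-- The clopen locus of the base where two finite opens agree. -/
def locus [Flat f] [LocallyOfFinitePresentation f] [IsSeparated f] {Z Z' : X.Opens}
    (hZ : IsFinite (Z.ι ≫ f)) (hZ' : IsFinite (Z'.ι ≫ f)) : T.Opens :=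
  ⟨(diffSet f Z Z')ᶜ, (isClopen_diffSet hZ hZ').compl.isOpen⟩

theorem isClosed_locus [Flat f] [LocallyOfFinitePresentation f] [IsSeparated f] {Z Z' : X.Opens}
    (hZ : IsFinite (Z.ι ≫ f)) (hZ' : IsFinite (Z'.ι ≫ f)) : IsClosed (locus hZ hZ' : Set T) :=
  (isClopen_diffSet hZ hZ').compl.isClosed

theorem preimage_eq_iff_range_subset_locus [Flat f] [LocallyOfFinitePresentation f] [IsSeparated f] {Z Z' : X.Opens}
    (hZ : IsFinite (Z.ι ≫ f)) (hZ' : IsFinite (Z'.ι ≫ f)) (sq : IsPullback h f' f g) :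
    h ⁻¹ᵁ Z = h ⁻¹ᵁ Z' ↔ Set.range g ⊆ locus hZ hZ' := by
  rw [preimage_eq_iff sq, Set.disjoint_right, locus]
  constructor
  · rintro h1 _ ⟨t, rfl⟩ h2
    exact h1 h2 ⟨t, rfl⟩
  · rintro h1 _ h2 ⟨t, rfl⟩
    exact h1 ⟨t, rfl⟩ h2

theorem zariskiLocalFinite : IsZariskiLocalAtTarget (@IsFinite : MorphismProperty Scheme.{u}) := inferInstance

theorem descendsFinite : MorphismProperty.DescendsAlong (@IsFinite : MorphismProperty Scheme.{u})
    (@Surjective ⊓ @Flat ⊓ @LocallyOfFinitePresentation) := by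
  have h1 : MorphismProperty.DescendsAlong (@IsFinite : MorphismProperty Scheme.{u})
    (@Surjective ⊓ @Flat ⊓ @QuasiCompact) := Groth.Agent.S0084.result
  have h2 := zariskiLocalFinite.{u}
  infer_instance

/-- fppf descent of `FO`, pointwise form. -/
theorem FO.of_local {Z : X.Opens}
    (H : ∀ t : T, ∃ (T' X' : Scheme.{u}) (g : T' ⟶ T) (h : X' ⟶ X) (f' : X' ⟶ T'),
      Flat g ∧ LocallyOfFinitePresentation g ∧ t ∈ Set.range g ∧ IsPullback h f' f g ∧ FO f' (h ⁻¹ᵁ Z)) :
    FO f Z := by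
  constructor
  · have i1 := zariskiLocalFinite.{u}
    have i2 := descendsFinite.{u}
    refine Groth.Agent.Flat2G.FibreDegreeE.of_forall_exists_fppf @IsFinite _ fun t => ?_
    obtain ⟨T', X', g, h, f', h1, h2, h3, sq, h4⟩ := H t
    refine ⟨T', g, h1, h2, h3, ?_⟩
    have sq' := isPullback_restrict sq Z
    exact (MorphismProperty.arrow_mk_iso_iff @IsFinite
      (Arrow.isoMk' _ _ sq'.isoPullback (Iso.refl _) (by simp))).1 h4.fin
  · constructor
    intro t
    obtain ⟨T', X', g, h, f', h1, h2, ⟨t', rfl⟩, sq, h4⟩ := H t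
    obtain ⟨z, hz⟩ := h4.surj.surj t'
    refine ⟨(h ∣_ Z) z, ?_⟩
    rw [← Scheme.Hom.comp_apply, (isPullback_restrict sq Z).w, Scheme.Hom.comp_apply, hz]

end K749.Clopen
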