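import Groth.Prelude.Def_AlgSp2
import Mathlib.CategoryTheory.Limits.Types.Pullbacks
/-!
# Sections of fppf sheaves over `S`: elementary toolkit

* `mem_J_iff`: covering sieves of the big fppf site of `S`, pointwise form.
* `toMap`: the map `h_T ⟶ F` of a section, and its calculus.
* `isPullback_of_sections`, `sections_of_isPullback`: pullback squares in `AlgSp.Sp S` read on sections.
* `repWith_of_sections`: `RepWith P p` from represented pullbacks read on sections.
* `mk_isSheaf`: sheaf condition in pointwise form.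
-/

set_option autoImplicit false

universe u

open CategoryTheory CategoryTheory.Limits AlgebraicGeometry Opposite

noncomputable section

namespace K749.Sect

theorem mem_grothendieckTopology_iff_forall {P : MorphismProperty Scheme.{u}} [P.IsMultiplicative]
    [P.IsStableUnderBaseChange] {X : Scheme.{u}} {S : Sieve X} :
    S ∈ Scheme.grothendieckTopology P X ↔ ∀ x : X, ∃ (Y : Scheme.{u}) (g : Y ⟶ X), S g ∧ P g ∧
      x ∈ Set.range g := by
  rw [Scheme.mem_grothendieckTopology_iff]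
  constructor
  · rintro ⟨𝒰, h⟩ x
    obtain ⟨i, y, hy⟩ := 𝒰.exists_eq x
    exact ⟨𝒰.X i, 𝒰.f i, h _ _ ⟨i⟩, 𝒰.map_prop i, ⟨y, hy⟩⟩
  · intro h
    choose Y g hg hP hy using h
    let 𝒰 : Scheme.Cover.{u} (Scheme.precoverage P) X :=
      { I₀ := X
        X := Y
        f := g
        mem₀ := by
          rw [Scheme.presieve₀_mem_precoverage_iff]
          exact ⟨fun x => ⟨x, hy x⟩, hP⟩ }
    refine ⟨𝒰, ?_⟩
    rintro _ _ ⟨i⟩
    exact hg i

theorem mem_over_grothendieckTopology_iff {P : MorphismProperty Scheme.{u}} [P.IsMultiplicative]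
    [P.IsStableUnderBaseChange] {S : Scheme.{u}} {T : Over S} {R : Sieve T} :
    R ∈ (Scheme.grothendieckTopology P).over S T ↔ ∀ x : T.left, ∃ (Y : Over S) (g : Y ⟶ T), R g ∧ P g.left ∧
      x ∈ Set.range g.left := by
  rw [GrothendieckTopology.mem_over_iff, mem_grothendieckTopology_iff_forall]
  constructor
  · intro h x
    obtain ⟨Y, g, hg, hP, hx⟩ := h x
    rw [Sieve.overEquiv_iff] at hg
    exact ⟨_, _, hg, hP, hx⟩
  · intro h x
    obtain ⟨Y, g, hg, hP, hx⟩ := h x
    refine ⟨Y.left, g.left, ?_, hP, hx⟩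
    rw [Sieve.overEquiv_iff]
    have := R.downward_closed hg (Over.homMk (𝟙 _) (by simp) : Over.mk (g.left ≫ T.hom) ⟶ Y)
    convert this using 1
    ext
    simp

theorem mem_J_iff {S : Scheme.{u}} {T : Over S} {R : Sieve T} :
    R ∈ AlgSp.J S T ↔ ∀ x : T.left, ∃ (Y : Over S) (g : Y ⟶ T), R g ∧ Flat g.left ∧
      LocallyOfFinitePresentation g.left ∧ x ∈ Set.range g.left := by
  have h1 : MorphismProperty.IsMultiplicative (C := Scheme.{u}) @LocallyOfFinitePresentation :=
    { id_mem := fun X => inferInstanceAs (LocallyOfFinitePresentation (𝟙 X)) }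
  have h2 : MorphismProperty.IsMultiplicative (C := Scheme.{u}) @Flat :=
    { id_mem := fun X => inferInstanceAs (Flat (𝟙 X)) }
  have h3 : MorphismProperty.IsMultiplicative (C := Scheme.{u}) (@Flat ⊓ @LocallyOfFinitePresentation) :=
    MorphismProperty.IsMultiplicative.inf
  refine (mem_over_grothendieckTopology_iff (P := @Flat ⊓ @LocallyOfFinitePresentation)).trans ?_
  refine forall_congr' fun x => exists_congr fun Y => exists_congr fun g => ?_
  constructor
  · rintro ⟨h1, ⟨h2, h3⟩, h4⟩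
    exact ⟨h1, h2, h3, h4⟩
  · rintro ⟨h1, h2, h3, h4⟩
    exact ⟨h1, ⟨h2, h3⟩, h4⟩

variable {S : Scheme.{u}} {F G H P : AlgSp.Sp S}

/-- The map `h_T ⟶ F` of a section of `F` over `T`. -/
def toMap {T : Over S} (x : F.obj.obj (op T)) : (AlgSp.yon S).obj T ⟶ F :=
  (GrothendieckTopology.uliftYonedaEquiv.{u + 1} (AlgSp.J S)).symm x

/-- The section of a map `h_T ⟶ F`. -/
def ofMap {T : Over S} (p : (AlgSp.yon S).obj T ⟶ F) : F.obj.obj (op T) :=
  GrothendieckTopology.uliftYonedaEquiv.{u + 1} (AlgSp.J S) p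

@[simp] theorem toMap_ofMap {T : Over S} (p : (AlgSp.yon S).obj T ⟶ F) : toMap (ofMap p) = p :=
  Equiv.symm_apply_apply _ _

@[simp] theorem ofMap_toMap {T : Over S} (x : F.obj.obj (op T)) : ofMap (toMap x) = x :=
  Equiv.apply_symm_apply _ _

theorem toMap_app {T T' : Over S} (x : F.obj.obj (op T)) (g : T' ⟶ T) :
    (toMap x).hom.app (op T') ⟨g⟩ = F.obj.map g.op x :=
  GrothendieckTopology.uliftYonedaEquiv_symm_app_apply.{u + 1} (AlgSp.J S) x (op T') g

theorem ofMap_def {T : Over S} (p : (AlgSp.yon S).obj T ⟶ F) : ofMap p = p.hom.app (op T) ⟨𝟙 T⟩ := rfl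

theorem map_ofMap {T T' : Over S} (p : (AlgSp.yon S).obj T ⟶ F) (g : T' ⟶ T) :
    F.obj.map g.op (ofMap p) = p.hom.app (op T') ⟨g⟩ :=
  GrothendieckTopology.map_uliftYonedaEquiv.{u + 1} (AlgSp.J S) p g

theorem yon_comp_toMap {T T' : Over S} (x : F.obj.obj (op T)) (g : T' ⟶ T) :
    (AlgSp.yon S).map g ≫ toMap x = toMap (F.obj.map g.op x) :=
  GrothendieckTopology.uliftYonedaEquiv_symm_naturality_left.{u + 1} (AlgSp.J S) g F x

theorem toMap_comp {T : Over S} (x : F.obj.obj (op T)) (f : F ⟶ G) :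
    toMap x ≫ f = toMap (f.hom.app _ x) :=
  GrothendieckTopology.uliftYonedaEquiv_symm_naturality_right.{u + 1} (AlgSp.J S) T f x

theorem toMap_injective {T : Over S} {x y : F.obj.obj (op T)} (h : toMap x = toMap y) : x = y :=
  (GrothendieckTopology.uliftYonedaEquiv.{u + 1} (AlgSp.J S)).symm.injective h

theorem hom_ext_sections {f g : F ⟶ G} (h : ∀ (T : Over S) (x : F.obj.obj (op T)), f.hom.app _ x = g.hom.app _ x) :
    f = g := by
  apply ObjectProperty.hom_ext
  ext T x
  exact h T.unop x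

theorem hom_ext_yon {f g : F ⟶ G} (h : ∀ (T : Over S) (x : (AlgSp.yon S).obj T ⟶ F), x ≫ f = x ≫ g) : f = g := by
  refine hom_ext_sections fun T x => toMap_injective ?_
  rw [← toMap_comp, ← toMap_comp, h]

/-- A square of sheaves is a pullback as soon as it is one on sections. -/
theorem isPullback_of_sections {t : P ⟶ F} {l : P ⟶ G} {r : F ⟶ H} {b : G ⟶ H} (w : t ≫ r = l ≫ b)
    (inj : ∀ (T : Over S) (x y : P.obj.obj (op T)), t.hom.app _ x = t.hom.app _ y →
      l.hom.app _ x = l.hom.app _ y → x = y)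
    (ex : ∀ (T : Over S) (x : F.obj.obj (op T)) (y : G.obj.obj (op T)), r.hom.app _ x = b.hom.app _ y →
      ∃ z : P.obj.obj (op T), t.hom.app _ z = x ∧ l.hom.app _ z = y) : IsPullback t l r b := by
  refine IsPullback.of_map (sheafToPresheaf (AlgSp.J S) (Type (u + 1))) w ?_
  refine IsPullback.of_forall_isPullback_app fun T => ?_
  rw [Types.isPullback_iff]
  refine ⟨?_, fun x y h => inj T.unop x y h.1 h.2, fun x y h => ex T.unop x y h⟩
  have := congrArg (fun k => k.hom.app T) w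
  exact this

theorem sections_of_isPullback {t : P ⟶ F} {l : P ⟶ G} {r : F ⟶ H} {b : G ⟶ H} (h : IsPullback t l r b)
    (T : Over S) (x : F.obj.obj (op T)) (y : G.obj.obj (op T)) (hxy : r.hom.app _ x = b.hom.app _ y) :
    ∃ z : P.obj.obj (op T), t.hom.app _ z = x ∧ l.hom.app _ z = y := by
  have h1 := (h.map (sheafToPresheaf (AlgSp.J S) (Type (u + 1)))).app (op T)
  exact Types.exists_of_isPullback h1 x y hxy

theorem ext_of_isPullback {t : P ⟶ F} {l : P ⟶ G} {r : F ⟶ H} {b : G ⟶ H} (h : IsPullback t l r b)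
    (T : Over S) {x y : P.obj.obj (op T)} (h1 : t.hom.app _ x = t.hom.app _ y)
    (h2 : l.hom.app _ x = l.hom.app _ y) : x = y := by
  have h3 := (h.map (sheafToPresheaf (AlgSp.J S) (Type (u + 1)))).app (op T)
  exact Types.ext_of_isPullback h3 h1 h2

/-- A map is representable with property `Q` when for every section of the target over a scheme `T` there is a scheme
`V ⟶ T` with property `Q` representing the fibre, read on sections. -/
theorem repWith_of_sections (Q : MorphismProperty Scheme.{u}) [Q.IsStableUnderBaseChange] (f : F ⟶ G)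
    (H : ∀ (T : Over S) (y : G.obj.obj (op T)), ∃ (V : Over S) (q : V ⟶ T) (x : F.obj.obj (op V)),
      Q q.left ∧ f.hom.app _ x = G.obj.map q.op y ∧
      (∀ (T' : Over S) (g : T' ⟶ T) (x' : F.obj.obj (op T')), f.hom.app _ x' = G.obj.map g.op y →
        ∃! k : T' ⟶ V, k ≫ q = g ∧ F.obj.map k.op x = x')) : AlgSp.RepWith Q f := by
  have : Q.RespectsIso := MorphismProperty.IsStableUnderBaseChange.respectsIso
  refine MorphismProperty.relative.of_exists fun T g => ?_
  obtain ⟨V, q, x, hq, hx, hu⟩ := H T (ofMap g)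
  refine ⟨V, toMap x, q, ?_, hq⟩
  refine isPullback_of_sections ?_ ?_ ?_
  · rw [toMap_comp, hx, ← yon_comp_toMap, toMap_ofMap]
  · rintro T' ⟨a⟩ ⟨b⟩ h1 h2
    change T' ⟶ V at a b
    rw [toMap_app, toMap_app] at h1
    have h2' : a ≫ q = b ≫ q := congrArg ULift.down h2
    obtain ⟨k, -, hk⟩ := hu T' (a ≫ q) (F.obj.map a.op x) (by
      rw [NatTrans.naturality_apply, hx, op_comp, Functor.map_comp_apply])
    exact congrArg ULift.up ((hk a ⟨rfl, rfl⟩).trans (hk b ⟨h2'.symm, h1.symm⟩).symm)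
  · rintro T' x' ⟨a⟩ h
    change T' ⟶ T at a
    obtain ⟨k, ⟨hk1, hk2⟩, -⟩ := hu T' a x' (by rw [h, map_ofMap])
    refine ⟨⟨k⟩, ?_, congrArg ULift.up hk1⟩
    rw [toMap_app, hk2]

theorem representable_of_sections (f : F ⟶ G)
    (H : ∀ (T : Over S) (y : G.obj.obj (op T)), ∃ (V : Over S) (q : V ⟶ T) (x : F.obj.obj (op V)),
      f.hom.app _ x = G.obj.map q.op y ∧
      (∀ (T' : Over S) (g : T' ⟶ T) (x' : F.obj.obj (op T')), f.hom.app _ x' = G.obj.map g.op y →
        ∃! k : T' ⟶ V, k ≫ q = g ∧ F.obj.map k.op x = x')) : AlgSp.Representable f :=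
  (repWith_of_sections (⊤ : MorphismProperty Scheme.{u}) f fun T y => by
    obtain ⟨V, q, x, h1, h2⟩ := H T y
    exact ⟨V, q, x, trivial, h1, h2⟩).1

/-- The converse: elementwise form of a represented pullback. -/
theorem exists_rep {Q : MorphismProperty Scheme.{u}} {f : F ⟶ G} (hf : AlgSp.RepWith Q f)
    (T : Over S) (y : G.obj.obj (op T)) : ∃ (V : Over S) (q : V ⟶ T) (x : F.obj.obj (op V)),
      Q q.left ∧ f.hom.app _ x = G.obj.map q.op y ∧
      (∀ (T' : Over S) (g : T' ⟶ T) (x' : F.obj.obj (op T')), f.hom.app _ x' = G.obj.map g.op y →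
        ∃! k : T' ⟶ V, k ≫ q = g ∧ F.obj.map k.op x = x') := by
  obtain ⟨V, q, x, hp⟩ := hf.1 (toMap y)
  refine ⟨V, q, ofMap x, hf.2 (toMap y) x q hp, ?_, ?_⟩
  · apply toMap_injective
    rw [← toMap_comp, toMap_ofMap, hp.w, yon_comp_toMap]
  · intro T' g x' h
    obtain ⟨⟨k⟩, hk1, hk2⟩ := sections_of_isPullback hp T' x' ⟨g⟩ (by rw [toMap_app, h])
    have hk2' : k ≫ q = g := congrArg ULift.down hk2
    refine ⟨k, ⟨hk2', by rw [map_ofMap]; exact hk1⟩, ?_⟩
    rintro k' ⟨h1, h2⟩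
    refine congrArg ULift.down (ext_of_isPullback hp T' (x := ⟨k'⟩) (y := ⟨k⟩) ?_ ?_)
    · rw [hk1, ← h2, map_ofMap]
    · exact congrArg ULift.up (h1.trans hk2'.symm)

end K749.Sect
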