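import Groth.Agent.AlgSt.K749.ClopenA
import Groth.Agent.AlgSt.K749.Sect
/-!
# Cartesian families of schemes and their functor of finite open pieces

`Fam p` : a cartesian family of separated flat lfp lqf schemes over the objects of a category over `(Sch/S)`;
`Fam.D a` : the open subschemes of the member at `a` which are finite and surjective over the base.
-/

set_option autoImplicit false

universe u v w

open CategoryTheory CategoryTheory.Limits AlgebraicGeometry TopologicalSpace Opposite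

noncomputable section

namespace K749.Clopen

section Rs

variable {S : Scheme.{u}} {U : Over S} {B : Over U}

/-- The restriction of an object of `Over U` to an open subscheme. -/
def Rs (A : Over U) (R : A.left.left.Opens) : Over U :=
  Over.mk ((Over.homMk R.ι rfl : Over.mk (R.ι ≫ A.left.hom) ⟶ A.left) ≫ A.hom)

/-- Its inclusion. -/
def Rsι (A : Over U) (R : A.left.left.Opens) : Rs A R ⟶ A := Over.homMk (Over.homMk R.ι rfl) rfl

theorem Rsι_left (A : Over U) (R : A.left.left.Opens) : (Rsι A R).left.left = R.ι := rfl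

theorem range_Rsι (A : Over U) (R : A.left.left.Opens) : Set.range (Rsι A R).left.left = R :=
  Scheme.Opens.range_ι R

theorem isOpenImmersion_Rsι (A : Over U) (R : A.left.left.Opens) : IsOpenImmersion (Rsι A R).left.left :=
  inferInstanceAs (IsOpenImmersion R.ι)

theorem existsUnique_Rs_lift {A : Over U} {R : A.left.left.Opens} (φ : B ⟶ A)
    (h : Set.range φ.left.left ⊆ (R : Set A.left.left)) : ∃! ψ : B ⟶ Rs A R, ψ ≫ Rsι A R = φ := by
  have h' : Set.range φ.left.left ⊆ Set.range R.ι := by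
    rw [Scheme.Opens.range_ι]
    exact h
  let k : B.left.left ⟶ R := IsOpenImmersion.lift R.ι φ.left.left h'
  have hk : k ≫ R.ι = φ.left.left := IsOpenImmersion.lift_fac _ _ _
  let k' : B.left ⟶ Over.mk (R.ι ≫ A.left.hom) := Over.homMk k (by
    change k ≫ R.ι ≫ A.left.hom = _
    rw [← Category.assoc, hk]
    exact Over.w φ.left)
  have hk' : k' ≫ (Over.homMk R.ι rfl : Over.mk (R.ι ≫ A.left.hom) ⟶ A.left) = φ.left :=
    Over.OverMorphism.ext hk
  have hk'' : k' ≫ (Over.homMk R.ι rfl : Over.mk (R.ι ≫ A.left.hom) ⟶ A.left) ≫ A.hom = B.hom := by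
    rw [← Category.assoc, hk', Over.w φ]
  refine ⟨Over.homMk k' hk'', Over.OverMorphism.ext hk', fun ψ hψ => ?_⟩
  apply Over.OverMorphism.ext
  apply Over.OverMorphism.ext
  have := congrArg (fun m => m.left.left) hψ
  exact (cancel_mono R.ι).1 (this.trans hk.symm)

end Rs

/-- A cartesian family of separated, flat, locally finitely presented, locally quasi-finite schemes over the objects of a
category `𝒜` over `(Sch/S)`. -/
structure Fam {S : Scheme.{u}} {𝒜 : Type w} [Category.{v} 𝒜] (p : 𝒜 ⥤ Over S) where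
  X : 𝒜 ⥤ Scheme.{u}
  π : ∀ a, X.obj a ⟶ (p.obj a).left
  sq : ∀ {a b : 𝒜} (f : a ⟶ b), IsPullback (X.map f) (π a) (π b) (p.map f).left
  flat : ∀ a, Flat (π a)
  lfp : ∀ a, LocallyOfFinitePresentation (π a)
  lqf : ∀ a, LocallyQuasiFinite (π a)
  sep : ∀ a, IsSeparated (π a)

namespace Fam

variable {S : Scheme.{u}} {𝒜 : Type w} [Category.{v} 𝒜] {p : 𝒜 ⥤ Over S} (X : Fam p)

instance instFlat (a : 𝒜) : Flat (X.π a) := X.flat a
instance instLfp (a : 𝒜) : LocallyOfFinitePresentation (X.π a) := X.lfp a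
instance instLqf (a : 𝒜) : LocallyQuasiFinite (X.π a) := X.lqf a
instance instSep (a : 𝒜) : IsSeparated (X.π a) := X.sep a

/-- The finite surjective open pieces of the member at `a`. -/
def D (a : 𝒜) : Type u := {Z : (X.X.obj a).Opens // FO (X.π a) Z}

@[ext] theorem D.ext {a : 𝒜} {Z Z' : X.D a} (h : Z.1 = Z'.1) : Z = Z' := Subtype.ext h

/-- Restriction of finite open pieces. -/
def res {a b : 𝒜} (f : a ⟶ b) (Z : X.D b) : X.D a := ⟨X.X.map f ⁻¹ᵁ Z.1, Z.2.pullback (X.sq f)⟩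

@[simp] theorem res_val {a b : 𝒜} (f : a ⟶ b) (Z : X.D b) : (X.res f Z).1 = X.X.map f ⁻¹ᵁ Z.1 := rfl

@[simp] theorem res_id {a : 𝒜} (Z : X.D a) : X.res (𝟙 a) Z = Z := by
  apply D.ext
  rw [res_val, X.X.map_id]
  rfl

theorem res_res {a b c : 𝒜} (f : a ⟶ b) (g : b ⟶ c) (Z : X.D c) : X.res f (X.res g Z) = X.res (f ≫ g) Z := by
  apply D.ext
  rw [res_val, res_val, res_val, X.X.map_comp]
  rfl

theorem mem_res {a b : 𝒜} (f : a ⟶ b) (Z : X.D b) (x : X.X.obj a) : x ∈ (X.res f Z).1 ↔ X.X.map f x ∈ Z.1 := Iff.rfl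

/-- The clopen locus of the base where two finite open pieces agree. -/
def locus {a : 𝒜} (Z Z' : X.D a) : ((p.obj a).left).Opens := Clopen.locus Z.2.fin Z'.2.fin

theorem isClosed_locus {a : 𝒜} (Z Z' : X.D a) : IsClosed (X.locus Z Z' : Set (p.obj a).left) :=
  Clopen.isClosed_locus _ _

theorem res_eq_iff {a b : 𝒜} (f : b ⟶ a) (Z Z' : X.D a) :
    X.res f Z = X.res f Z' ↔ Set.range (p.map f).left ⊆ X.locus Z Z' := by
  rw [locus, ← preimage_eq_iff_range_subset_locus Z.2.fin Z'.2.fin (X.sq f)]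
  exact ⟨fun h => congrArg Subtype.val h, fun h => D.ext X h⟩

/-- Points of a member of the family over a fibre product. -/
theorem exists_point {a b b' c : 𝒜} {f : b ⟶ a} {f' : b' ⟶ a} {g : c ⟶ b} {g' : c ⟶ b'}
    (w : g ≫ f = g' ≫ f') (sq : IsPullback (p.map g').left (p.map g).left (p.map f').left (p.map f).left)
    (x : X.X.obj b) (x' : X.X.obj b') (h : X.X.map f x = X.X.map f' x') :
    ∃ z : X.X.obj c, X.X.map g z = x ∧ X.X.map g' z = x' := by
  have s1 : IsPullback (X.π c ≫ (p.map g').left) (X.X.map g) (p.map f').left (X.π b ≫ (p.map f).left) :=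
    (X.sq g).flip.paste_horiz sq
  have s2 : IsPullback (X.X.map g') (X.X.map g) (X.X.map f') (X.X.map f) := by
    refine IsPullback.of_right (h₁₂ := X.π b') (h₂₂ := X.π a) (v₁₃ := (p.map f').left) ?_ ?_ (X.sq f').flip
    · rw [(X.sq g').w, (X.sq f).w]
      exact s1
    · rw [← X.X.map_comp, ← X.X.map_comp, w]
  obtain ⟨z, h1, h2⟩ := Scheme.exists_preimage_of_isPullback s2 x' x h.symm
  exact ⟨z, h2, h1⟩

/-- Gluing of finite open pieces along a family containing a flat lfp jointly surjective one, when fibre products exist in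
`𝒜` and are fibre products of schemes. -/
theorem existsUnique_glue {a : 𝒜} {ι : Type*} (b : ι → 𝒜) (f : ∀ i, b i ⟶ a)
    (hfp : ∀ i j, ∃ (c : 𝒜) (g : c ⟶ b i) (g' : c ⟶ b j), g ≫ f i = g' ≫ f j ∧
      IsPullback (p.map g').left (p.map g).left (p.map (f j)).left (p.map (f i)).left)
    (Z : ∀ i, X.D (b i))
    (hZ : ∀ i j (c : 𝒜) (g : c ⟶ b i) (g' : c ⟶ b j), g ≫ f i = g' ≫ f j → X.res g (Z i) = X.res g' (Z j))
    (hcov : ∀ t : (p.obj a).left, ∃ i, Flat (p.map (f i)).left ∧ LocallyOfFinitePresentation (p.map (f i)).left ∧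
      t ∈ Set.range (p.map (f i)).left) :
    ∃! Z₀ : X.D a, ∀ i, X.res (f i) Z₀ = Z i := by
  have key : ∀ i j (x : X.X.obj (b i)) (x' : X.X.obj (b j)), X.X.map (f i) x = X.X.map (f j) x' →
      (x ∈ (Z i).1 ↔ x' ∈ (Z j).1) := by
    intro i j x x' h
    obtain ⟨c, g, g', w, sq⟩ := hfp i j
    obtain ⟨z, rfl, rfl⟩ := X.exists_point w sq x x' h
    rw [← X.mem_res, ← X.mem_res, hZ i j c g g' w]
  let I := {i : ι // Flat (p.map (f i)).left ∧ LocallyOfFinitePresentation (p.map (f i)).left}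
  have hopen : ∀ i : I, IsOpenMap (X.X.map (f i.1)) := by
    rintro ⟨i, hi1, hi2⟩
    have : Flat (X.X.map (f i)) := MorphismProperty.of_isPullback (P := @Flat) (X.sq (f i)).flip hi1
    have : LocallyOfFinitePresentation (X.X.map (f i)) :=
      MorphismProperty.of_isPullback (P := @LocallyOfFinitePresentation) (X.sq (f i)).flip hi2
    exact (X.X.map (f i)).isOpenMap
  let Z₀ : (X.X.obj a).Opens := ⟨⋃ i : I, X.X.map (f i.1) '' (Z i.1).1, isOpen_iUnion fun i => hopen i _ (Z i.1).1.isOpen⟩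
  have hmem : ∀ x, x ∈ Z₀ ↔ ∃ i : I, ∃ y ∈ (Z i.1).1, X.X.map (f i.1) y = x := by
    intro x
    change x ∈ ⋃ i : I, X.X.map (f i.1) '' (Z i.1).1 ↔ _
    rw [Set.mem_iUnion]
    rfl
  have hpt : ∀ x : X.X.obj a, ∃ i : I, x ∈ Set.range (X.X.map (f i.1)) := by
    intro x
    obtain ⟨i, h1, h2, t, ht⟩ := hcov (X.π a x)
    obtain ⟨y, hy, -⟩ := Scheme.exists_preimage_of_isPullback (X.sq (f i)) x t ht.symm
    exact ⟨⟨i, h1, h2⟩, y, hy⟩
  have hres : ∀ i, X.X.map (f i) ⁻¹ᵁ Z₀ = (Z i).1 := by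
    intro i
    ext x
    change X.X.map (f i) x ∈ Z₀ ↔ x ∈ (Z i).1
    rw [hmem]
    constructor
    · rintro ⟨j, y, hy, hyx⟩
      exact (key i j.1 x y hyx.symm).2 hy
    · intro hx
      obtain ⟨j, y, hy⟩ := hpt (X.X.map (f i) x)
      exact ⟨j, y, (key i j.1 x y hy.symm).1 hx, hy⟩
  have hFO : FO (X.π a) Z₀ := by
    refine FO.of_local fun t => ?_
    obtain ⟨i, h1, h2, h3⟩ := hcov t
    refine ⟨_, _, (p.map (f i)).left, X.X.map (f i), X.π (b i), h1, h2, h3, X.sq (f i), ?_⟩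
    rw [hres]
    exact (Z i).2
  refine ⟨⟨Z₀, hFO⟩, fun i => D.ext X (hres i), ?_⟩
  intro Z₁ h
  apply D.ext
  ext x
  obtain ⟨i, y, rfl⟩ := hpt x
  have h1 := congrArg Subtype.val (h i.1)
  have h2 : X.X.map (f i.1) y ∈ Z₁.1 ↔ y ∈ (Z i.1).1 := by rw [← h1]; rfl
  have h3 : X.X.map (f i.1) y ∈ Z₀ ↔ y ∈ (Z i.1).1 := by rw [← hres i.1]; rfl
  exact h2.trans h3.symm

end Fam

end K749.Clopen
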