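import Groth.Agent.AlgSt.K749.ClopenB
import Groth.Agent.AlgSp.K613.Chart
/-!
# The sheaf of finite open pieces of a cartesian family over the schemes over `U`
-/

set_option autoImplicit false

universe u v w

open CategoryTheory CategoryTheory.Limits AlgebraicGeometry TopologicalSpace Opposite

noncomputable section

namespace K749.Clopen

namespace Fam

variable {S : Scheme.{u}} {U : Over S} (X : Fam (Over.forget U))

/-- A section over `T` of the sheaf of finite open pieces: a morphism `t : T ⟶ U` and a piece over it. -/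
structure ESec (T : Over S) : Type u where
  t : T ⟶ U
  Z : X.D (Over.mk t)

namespace ESec

variable {X}

/-- The morphism of `Over U` attached to `g` with `g ≫ t = t'`. -/
abbrev hm {T T' : Over S} (g : T' ⟶ T) {t' : T' ⟶ U} {t : T ⟶ U} (h : g ≫ t = t') : Over.mk t' ⟶ Over.mk t :=
  Over.homMk g h

def map {T T' : Over S} (g : T' ⟶ T) (s : X.ESec T) : X.ESec T' := ⟨g ≫ s.t, X.res (hm g rfl) s.Z⟩

theorem ext_hm {T : Over S} {s s' : X.ESec T} (h : s.t = s'.t)
    (hZ : s.Z = X.res (hm (𝟙 T) (by rw [Category.id_comp, h])) s'.Z) : s = s' := by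
  obtain ⟨t, Z⟩ := s
  obtain ⟨t', Z'⟩ := s'
  obtain rfl : t = t' := h
  have : Z = Z' := by
    refine hZ.trans ?_
    have h1 : (hm (𝟙 T) (by rw [Category.id_comp]) : Over.mk t ⟶ Over.mk t) = 𝟙 _ := rfl
    change X.res (hm (𝟙 T) _ : Over.mk t ⟶ Over.mk t) Z' = Z'
    rw [h1, res_id]
  rw [this]

theorem eq_iff {T : Over S} {s s' : X.ESec T} : s = s' ↔ s.t = s'.t ∧ ∀ (A : Over U) (φ : A ⟶ Over.mk s.t)
    (φ' : A ⟶ Over.mk s'.t), φ.left = φ'.left → X.res φ s.Z = X.res φ' s'.Z := by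
  constructor
  · rintro rfl
    refine ⟨rfl, fun A φ φ' h => ?_⟩
    rw [Over.OverMorphism.ext h]
  · rintro ⟨h, h'⟩
    refine ext_hm h ?_
    have := h' (Over.mk s.t) (𝟙 _) (hm (𝟙 T) (by rw [Category.id_comp, h])) rfl
    rwa [res_id] at this

theorem map_eq_map_iff {T T₁ T₂ : Over S} (g₁ : T ⟶ T₁) (g₂ : T ⟶ T₂) (s₁ : X.ESec T₁) (s₂ : X.ESec T₂) :
    s₁.map g₁ = s₂.map g₂ ↔ g₁ ≫ s₁.t = g₂ ≫ s₂.t ∧ ∀ (A : Over U) (φ₁ : A ⟶ Over.mk s₁.t)
    (φ₂ : A ⟶ Over.mk s₂.t) (a : A.left ⟶ T), φ₁.left = a ≫ g₁ → φ₂.left = a ≫ g₂ → X.res φ₁ s₁.Z = X.res φ₂ s₂.Z := by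
  rw [eq_iff]
  refine and_congr_right fun h => ?_
  constructor
  · intro H A φ₁ φ₂ a h1 h2
    have ha : a ≫ g₁ ≫ s₁.t = A.hom := by
      rw [← Category.assoc, ← h1]
      exact Over.w φ₁
    have hb : a ≫ g₂ ≫ s₂.t = A.hom := by
      rw [← Category.assoc, ← h2]
      exact Over.w φ₂
    have := H A (Over.homMk a ha) (Over.homMk a hb) rfl
    change X.res _ (X.res _ s₁.Z) = X.res _ (X.res _ s₂.Z) at this
    rw [res_res, res_res] at this
    convert this using 2
    · exact Over.OverMorphism.ext h1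
    · exact Over.OverMorphism.ext h2
  · intro H A φ φ' h1
    change X.res _ (X.res _ s₁.Z) = X.res _ (X.res _ s₂.Z)
    rw [res_res, res_res]
    refine H A _ _ φ.left rfl ?_
    rw [h1]
    rfl

theorem map_id {T : Over S} (s : X.ESec T) : s.map (𝟙 T) = s := by
  rw [eq_iff]
  refine ⟨Category.id_comp _, fun A φ φ' h => ?_⟩
  change X.res _ (X.res _ s.Z) = _
  rw [res_res]
  congr 1
  apply Over.OverMorphism.ext
  rw [← h]
  exact Category.comp_id _

theorem map_map {T T' T'' : Over S} (g : T' ⟶ T) (g' : T'' ⟶ T') (s : X.ESec T) :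
    (s.map g).map g' = s.map (g' ≫ g) := by
  rw [eq_iff]
  refine ⟨(Category.assoc _ _ _).symm, fun A φ φ' h => ?_⟩
  change X.res _ (X.res _ (X.res _ s.Z)) = X.res _ (X.res _ s.Z)
  rw [res_res, res_res, res_res]
  congr 1
  apply Over.OverMorphism.ext
  change φ.left ≫ g' ≫ g = φ'.left ≫ g' ≫ g
  rw [h]

end ESec

/-- The presheaf of finite open pieces, with values in `Type (u+1)`. -/
def Epsh : (Over S)ᵒᵖ ⥤ Type (u + 1) where
  obj T := ULift.{u + 1} (X.ESec T.unop)
  map g := ↾fun s => ⟨s.down.map g.unop⟩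
  map_id T := by
    ext s
    exact ESec.map_id _
  map_comp g h := by
    ext s
    exact (ESec.map_map _ _ _).symm

@[simp] theorem Epsh_map {T T' : Over S} (g : T' ⟶ T) (s : X.Epsh.obj (op T)) :
    (X.Epsh.map g.op s).down = s.down.map g := rfl

theorem isSheaf : Presieve.IsSheaf (AlgSp.J S) X.Epsh := by
  intro T R hR x hx
  have hU : Presieve.IsSheaf (AlgSp.J S) (yoneda.obj U) :=
    GrothendieckTopology.Subcanonical.isSheaf_of_isRepresentable _
  let y : Presieve.FamilyOfElements (yoneda.obj U) R.arrows := fun T' g hg => (x g hg).down.t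
  have hy : y.Compatible := by
    intro Y₁ Y₂ Z g₁ g₂ f₁ f₂ h₁ h₂ h
    have := congrArg ULift.down (hx g₁ g₂ h₁ h₂ h)
    exact congrArg ESec.t this
  obtain ⟨t, ht, ht'⟩ := hU R hR y hy
  have ht1 : ∀ {T' : Over S} (g : T' ⟶ T) (hg : R g), g ≫ t = (x g hg).down.t := fun g hg => ht g hg
  let ι := Σ T' : Over S, {g : T' ⟶ T // R g}
  let b : ι → Over U := fun i => Over.mk (i.2.1 ≫ t)
  let f : ∀ i, b i ⟶ Over.mk t := fun i => Over.homMk i.2.1 rfl
  let Z : ∀ i, X.D (b i) := fun i =>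
    X.res (ESec.hm (𝟙 i.1) (by rw [Category.id_comp, ht1 i.2.1 i.2.2])) (x i.2.1 i.2.2).down.Z
  obtain ⟨Z₀, hZ₀, hZ₀'⟩ := X.existsUnique_glue b f (by
      intro i j
      refine ⟨Over.mk (pullback.fst i.2.1 j.2.1 ≫ i.2.1 ≫ t), Over.homMk (pullback.fst i.2.1 j.2.1) rfl,
        Over.homMk (pullback.snd i.2.1 j.2.1) ?_, ?_, ?_⟩
      · change pullback.snd i.2.1 j.2.1 ≫ j.2.1 ≫ t = _
        rw [← Category.assoc, ← pullback.condition, Category.assoc]
        rfl
      · apply Over.OverMorphism.ext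
        exact pullback.condition
      · exact (IsPullback.of_hasPullback i.2.1 j.2.1).flip.map (Over.forget S)) Z (by
      intro i j c g g' h
      have h1 := congrArg ULift.down (hx g.left g'.left i.2.2 j.2.2 (congrArg (fun k => k.left) h))
      change (x i.2.1 i.2.2).down.map g.left = (x j.2.1 j.2.2).down.map g'.left at h1
      rw [ESec.map_eq_map_iff] at h1
      change X.res g (X.res _ _) = X.res g' (X.res _ _)
      rw [res_res, res_res]
      exact h1.2 c _ _ (𝟙 c.left) ((Category.comp_id g.left).trans (Category.id_comp g.left).symm)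
        ((Category.comp_id g'.left).trans (Category.id_comp g'.left).symm)) (by
      intro τ
      obtain ⟨Y, g, h1, h2, h3, h4⟩ := Sect.mem_J_iff.1 hR τ
      exact ⟨⟨Y, g, h1⟩, h2, h3, h4⟩)
  have key : ∀ (s : X.ESec T), s.t = t → ((∀ {T' : Over S} (g : T' ⟶ T) (hg : R g), s.map g = (x g hg).down) ↔
      ∀ (hs : s.t = t) i, X.res (f i) (X.res (ESec.hm (𝟙 T) (by rw [Category.id_comp, hs])) s.Z) = Z i) := by
    rintro ⟨s, W⟩ h
    obtain rfl : s = t := h
    constructor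
    · rintro H _ ⟨T', g, hg⟩
      have := H g hg
      rw [← ESec.map_id (x g hg).down, ESec.map_eq_map_iff] at this
      change X.res _ (X.res _ W) = X.res _ _
      rw [res_res]
      have h2 := this.2 (b ⟨T', g, hg⟩) (f ⟨T', g, hg⟩) (ESec.hm (𝟙 T') (by rw [Category.id_comp, ht1 g hg])) (𝟙 T')
        (Category.id_comp _).symm (Category.id_comp _).symm
      refine Eq.trans ?_ h2
      congr 1
    · intro H T' g hg
      have h1 := H rfl ⟨T', g, hg⟩
      rw [res_res] at h1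
      refine ESec.ext_hm (ht1 g hg) ?_
      refine Eq.trans ?_ h1
      change X.res _ W = X.res _ W
      congr 1
  refine ⟨⟨⟨t, Z₀⟩⟩, ?_, ?_⟩
  · have hk : ∀ (T' : Over S) (g : T' ⟶ T) (hg : R g), (⟨t, Z₀⟩ : X.ESec T).map g = (x g hg).down :=
      fun T' g hg => (key ⟨t, Z₀⟩ rfl).2 (by
      intro hs i
      rw [← hZ₀ i]
      congr 1
      have h1 : (ESec.hm (𝟙 T) (by rw [Category.id_comp]) : Over.mk t ⟶ Over.mk t) = 𝟙 _ := rfl
      change X.res (ESec.hm (𝟙 T) _ : Over.mk t ⟶ Over.mk t) Z₀ = Z₀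
      rw [h1, res_id]) g hg
    intro T' g hg
    exact congrArg ULift.up (hk T' g hg)
  · rintro ⟨⟨t', Z'⟩⟩ h
    have hh : ∀ {T' : Over S} (g : T' ⟶ T) (hg : R g), (⟨t', Z'⟩ : X.ESec T).map g = (x g hg).down :=
      fun g hg => congrArg ULift.down (h g hg)
    obtain rfl : t' = t := ht' t' fun T' g hg => congrArg ESec.t (hh g hg)
    have h2 := (key ⟨t', Z'⟩ rfl).1 hh rfl
    have h3 := hZ₀' Z' (by
      intro i
      rw [← h2 i]
      congr 1
      have h1 : (ESec.hm (𝟙 T) (by rw [Category.id_comp]) : Over.mk t' ⟶ Over.mk t') = 𝟙 _ := rfl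
      change Z' = X.res (ESec.hm (𝟙 T) _ : Over.mk t' ⟶ Over.mk t') Z'
      rw [h1, res_id])
    rw [h3]

/-- The fppf sheaf of finite open pieces. -/
def E : AlgSp.Sp S := ⟨X.Epsh, (isSheaf_iff_isSheaf_of_type _ _).2 X.isSheaf⟩

end Fam

end K749.Clopen
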