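import Groth.Agent.AlgSt.K749.ClopenC
import Groth.Agent.AlgSp.K613.Diag
/-!
# The sheaf of finite open pieces: diagonal, projection to `U`, étale sections
-/

set_option autoImplicit false

universe u v w

open CategoryTheory CategoryTheory.Limits AlgebraicGeometry TopologicalSpace Opposite

noncomputable section

namespace K749.Clopen

namespace Fam

variable {S : Scheme.{u}} {U : Over S} (X : Fam (Over.forget U))

section locus

variable {A B : Over U} (Z Z' : X.D A)

/-- The locus where two pieces agree, as an open subscheme of `A.left.left`. -/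
def lo : A.left.left.Opens := X.locus Z Z'

theorem isClosed_lo : IsClosed (X.lo Z Z' : Set A.left.left) := X.isClosed_locus Z Z'

theorem res_eq_iff_lo (φ : B ⟶ A) : X.res φ Z = X.res φ Z' ↔ Set.range φ.left.left ⊆ X.lo Z Z' := X.res_eq_iff φ Z Z'

/-- The object of the locus where two pieces agree. -/
abbrev LO : Over U := Rs A (X.lo Z Z')

/-- Its map to `A`. -/
abbrev LOι : X.LO Z Z' ⟶ A := Rsι A (X.lo Z Z')

theorem res_LOι : X.res (X.LOι Z Z') Z = X.res (X.LOι Z Z') Z' := by
  rw [res_eq_iff_lo]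
  exact (Scheme.Opens.range_ι (X.lo Z Z')).le

theorem exists_LO_lift (φ : B ⟶ A) (h : X.res φ Z = X.res φ Z') : ∃! ψ : B ⟶ X.LO Z Z', ψ ≫ X.LOι Z Z' = φ := by
  rw [res_eq_iff_lo] at h
  exact existsUnique_Rs_lift φ h

end locus

/-- The map `h_T ⟶ E` of a section. -/
def sec {T : Over S} (s : X.ESec T) : (AlgSp.yon S).obj T ⟶ X.E :=
  Sect.toMap (F := X.E) (show X.E.obj.obj (op T) from ⟨s⟩)

theorem exists_sec {T : Over S} (y : (AlgSp.yon S).obj T ⟶ X.E) : ∃ s : X.ESec T, y = X.sec s :=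
  ⟨(Sect.ofMap y : ULift.{u + 1} (X.ESec T)).down, (Sect.toMap_ofMap y).symm⟩

theorem sec_injective {T : Over S} {s s' : X.ESec T} (h : X.sec s = X.sec s') : s = s' :=
  congrArg ULift.down (Sect.toMap_injective (F := X.E) h)

theorem map_comp_sec {T T' : Over S} (g : T' ⟶ T) (s : X.ESec T) : (AlgSp.yon S).map g ≫ X.sec s = X.sec (s.map g) :=
  Sect.yon_comp_toMap (F := X.E) _ g

theorem map_comp_sec_eq_iff {T T₁ T₂ : Over S} (g₁ : T ⟶ T₁) (g₂ : T ⟶ T₂) (s₁ : X.ESec T₁) (s₂ : X.ESec T₂) :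
    (AlgSp.yon S).map g₁ ≫ X.sec s₁ = (AlgSp.yon S).map g₂ ≫ X.sec s₂ ↔ s₁.map g₁ = s₂.map g₂ := by
  rw [map_comp_sec, map_comp_sec]
  exact ⟨fun h => X.sec_injective h, fun h => congrArg _ h⟩

/-- The projection of the sheaf of finite open pieces to `h_U`. -/
def proj : X.E ⟶ (AlgSp.yon S).obj U :=
  ObjectProperty.homMk
    { app := fun T => ↾fun (s : ULift.{u + 1} (X.ESec T.unop)) => ⟨s.down.t⟩
      naturality := fun T T' g => by
        ext s
        rfl }

theorem sec_proj {T : Over S} (s : X.ESec T) : X.sec s ≫ X.proj = (AlgSp.yon S).map s.t := by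
  rw [sec, Sect.toMap_comp, ← Sect.toMap_ofMap ((AlgSp.yon S).map s.t)]
  congr 1

/-- Locus of agreement of two sections. -/
theorem exists_isEq {T : Over S} (s s' : X.ESec T) : ∃ (E : Over S) (e : E ⟶ T),
    K613.Chart.IsEq (X.sec s) (X.sec s') e ∧ (s.t = s'.t → IsClosedImmersion e.left ∧ IsOpenImmersion e.left) := by
  let Q : Over S := equalizer s.t s'.t
  let q : Q ⟶ T := equalizer.ι s.t s'.t
  have hq : q ≫ s.t = q ≫ s'.t := equalizer.condition _ _
  let A : Over U := Over.mk (q ≫ s.t)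
  let φ : A ⟶ Over.mk s.t := Over.homMk q rfl
  let φ' : A ⟶ Over.mk s'.t := Over.homMk q hq.symm
  let Z := X.res φ s.Z
  let Z' := X.res φ' s'.Z
  let e : (X.LO Z Z').left ⟶ T := (X.LOι Z Z').left ≫ q
  have hw : s.map e = s'.map e := by
    rw [ESec.map_eq_map_iff]
    refine ⟨?_, ?_⟩
    · change ((X.LOι Z Z').left ≫ q) ≫ s.t = ((X.LOι Z Z').left ≫ q) ≫ s'.t
      rw [Category.assoc, Category.assoc, hq]
    · intro B φ₁ φ₂ a h1 h2
      have ha : a ≫ (X.LO Z Z').hom = B.hom := by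
        rw [← Over.w φ₁, h1]
        rfl
      let ψ : B ⟶ X.LO Z Z' := Over.homMk a ha
      have h3 := congrArg (X.res ψ) (X.res_LOι Z Z')
      rw [res_res, res_res, res_res, res_res] at h3
      convert h3 using 2
      · exact Over.OverMorphism.ext h1
      · exact Over.OverMorphism.ext h2
  refine ⟨_, e, ⟨?_, ?_⟩, ?_⟩
  · rw [map_comp_sec, map_comp_sec, hw]
  · intro R r hr
    rw [map_comp_sec_eq_iff] at hr
    have h1 : r ≫ s.t = r ≫ s'.t := congrArg ESec.t hr
    rw [ESec.map_eq_map_iff] at hr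
    let r₀ : R ⟶ Q := equalizer.lift r h1
    have hr₀ : r₀ ≫ q = r := equalizer.lift_ι _ _
    let ψ : Over.mk (r ≫ s.t) ⟶ A := Over.homMk r₀ (by
      change r₀ ≫ q ≫ s.t = r ≫ s.t
      rw [← Category.assoc, hr₀])
    obtain ⟨χ, hχ, hχ'⟩ := X.exists_LO_lift Z Z' ψ (by
      change X.res ψ (X.res φ s.Z) = X.res ψ (X.res φ' s'.Z)
      rw [res_res, res_res]
      exact hr.2 _ _ _ (𝟙 R) (hr₀.trans (Category.id_comp _).symm) (hr₀.trans (Category.id_comp _).symm))
    refine ⟨χ.left, ?_, ?_⟩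
    · change χ.left ≫ (X.LOι Z Z').left ≫ q = r
      rw [← Category.assoc]
      have : χ.left ≫ (X.LOι Z Z').left = r₀ := congrArg (fun k => k.left) hχ
      rw [this, hr₀]
    · intro k hk
      have hk1 : k ≫ (X.LOι Z Z').left = r₀ := by
        rw [← cancel_mono q, hr₀, Category.assoc]
        exact hk
      have hk2 : k ≫ (X.LO Z Z').hom = r ≫ s.t := by
        change k ≫ (X.LOι Z Z').left ≫ q ≫ s.t = _
        rw [← Category.assoc, hk1, ← Category.assoc, hr₀]
      have := hχ' (Over.homMk k hk2) (Over.OverMorphism.ext hk1)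
      exact congrArg (fun k => k.left) this
  · intro h
    have : IsIso q := by
      have := equalizer.ι_of_eq h
      exact this
    have hq2 : IsIso q.left := inferInstanceAs (IsIso ((Over.forget S).map q))
    have h1 : e.left = (X.lo Z Z').ι ≫ q.left := rfl
    rw [h1]
    have hc : IsClosedImmersion (X.lo Z Z').ι := by
      refine IsClosedImmersion.of_isPreimmersion _ ?_
      rw [Scheme.Opens.range_ι]
      exact X.isClosed_lo Z Z'
    have hc1 : IsClosedImmersion ((X.lo Z Z').ι ≫ q.left) := inferInstance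
    have hc2 : IsOpenImmersion ((X.lo Z Z').ι ≫ q.left) := inferInstance
    exact ⟨hc1, hc2⟩

theorem representable_diag : AlgSp.Representable (Limits.diag X.E) := by
  rw [K613.Chart.representable_diag_iff]
  intro T a b
  obtain ⟨s, rfl⟩ := X.exists_sec a
  obtain ⟨s', rfl⟩ := X.exists_sec b
  obtain ⟨E, e, h, -⟩ := X.exists_isEq s s'
  exact ⟨E, e, h⟩

theorem isSeparatedMor_proj : AlgSp.IsSeparatedMor X.proj := by
  change AlgSp.RepWith @IsClosedImmersion (pullback.diagonal X.proj)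
  rw [K613.Diag.repWith_diagonal_iff]
  intro T a b hab
  obtain ⟨s, rfl⟩ := X.exists_sec a
  obtain ⟨s', rfl⟩ := X.exists_sec b
  rw [sec_proj, sec_proj] at hab
  obtain ⟨E, e, h, h'⟩ := X.exists_isEq s s'
  exact ⟨E, e, h, (h' ((AlgSp.yon S).map_injective hab)).1⟩

/-- Sections over schemes étale over `U` are étale. -/
theorem repWith_sec (P : MorphismProperty Scheme.{u}) [P.IsStableUnderBaseChange] [P.IsStableUnderComposition]
    (hP : ∀ {V W : Scheme.{u}} (f : V ⟶ W) [IsOpenImmersion f], P f) {T : Over S} (s : X.ESec T) (hs : P s.t.left) :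
    AlgSp.RepWith P (X.sec s) := by
  refine MorphismProperty.relative.of_exists fun T₁ y => ?_
  obtain ⟨s₁, rfl⟩ := X.exists_sec y
  let Q : Over S := pullback s.t s₁.t
  let q : Q ⟶ T := pullback.fst s.t s₁.t
  let q₁ : Q ⟶ T₁ := pullback.snd s.t s₁.t
  have hq : q ≫ s.t = q₁ ≫ s₁.t := pullback.condition
  let A : Over U := Over.mk (q ≫ s.t)
  let φ : A ⟶ Over.mk s.t := Over.homMk q rfl
  let φ₁ : A ⟶ Over.mk s₁.t := Over.homMk q₁ hq.symm
  let Z := X.res φ s.Z
  let Z₁ := X.res φ₁ s₁.Z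
  let e : (X.LO Z Z₁).left ⟶ Q := (X.LOι Z Z₁).left
  have hw : s.map (e ≫ q) = s₁.map (e ≫ q₁) := by
    rw [ESec.map_eq_map_iff]
    refine ⟨?_, ?_⟩
    · rw [Category.assoc, Category.assoc, hq]
    · intro B ψ ψ₁ a h1 h2
      have ha : a ≫ (X.LO Z Z₁).hom = B.hom := by
        rw [← Over.w ψ, h1]
        rfl
      let χ : B ⟶ X.LO Z Z₁ := Over.homMk a ha
      have h3 := congrArg (X.res χ) (X.res_LOι Z Z₁)
      rw [res_res, res_res, res_res, res_res] at h3
      convert h3 using 2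
      · exact Over.OverMorphism.ext h1
      · exact Over.OverMorphism.ext h2
  refine ⟨(X.LO Z Z₁).left, (AlgSp.yon S).map (e ≫ q), e ≫ q₁, K613.Basic.isPullback_of_yon ?_ ?_, ?_⟩
  · rw [map_comp_sec, map_comp_sec, hw]
  · intro R a b hab
    obtain ⟨a, rfl⟩ := (AlgSp.yon S).map_surjective a
    obtain ⟨b, rfl⟩ := (AlgSp.yon S).map_surjective b
    rw [map_comp_sec_eq_iff] at hab
    have h1 : a ≫ s.t = b ≫ s₁.t := congrArg ESec.t hab
    rw [ESec.map_eq_map_iff] at hab
    let r₀ : R ⟶ Q := pullback.lift a b h1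
    have hra : r₀ ≫ q = a := pullback.lift_fst _ _ _
    have hrb : r₀ ≫ q₁ = b := pullback.lift_snd _ _ _
    let ψ : Over.mk (a ≫ s.t) ⟶ A := Over.homMk r₀ (by
      change r₀ ≫ q ≫ s.t = a ≫ s.t
      rw [← Category.assoc, hra])
    obtain ⟨χ, hχ, hχ'⟩ := X.exists_LO_lift Z Z₁ ψ (by
      change X.res ψ (X.res φ s.Z) = X.res ψ (X.res φ₁ s₁.Z)
      rw [res_res, res_res]
      exact hab.2 _ _ _ (𝟙 R) (hra.trans (Category.id_comp _).symm) (hrb.trans (Category.id_comp _).symm))
    have hχ1 : χ.left ≫ e = r₀ := congrArg (fun k => k.left) hχ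
    refine ⟨(AlgSp.yon S).map χ.left, ⟨?_, ?_⟩, ?_⟩
    · rw [← Functor.map_comp, ← Category.assoc, hχ1, hra]
    · rw [← Functor.map_comp, ← Category.assoc, hχ1, hrb]
    · rintro k ⟨hk, hk'⟩
      obtain ⟨k, rfl⟩ := (AlgSp.yon S).map_surjective k
      rw [← Functor.map_comp] at hk hk'
      have hk := (AlgSp.yon S).map_injective hk
      have hk' := (AlgSp.yon S).map_injective hk'
      have hk1 : k ≫ e = r₀ := by
        apply pullback.hom_ext
        · rw [pullback.lift_fst, ← hk, Category.assoc]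
        · rw [pullback.lift_snd, ← hk', Category.assoc]
      have hk2 : k ≫ (X.LO Z Z₁).hom = a ≫ s.t := by
        change k ≫ e ≫ q ≫ s.t = _
        rw [← Category.assoc, hk1, ← Category.assoc, hra]
      have h5 := hχ' (Over.homMk k hk2) (Over.OverMorphism.ext hk1)
      have h6 : k = χ.left := congrArg (fun k => k.left) h5
      rw [h6]
  · have h1 : P q₁.left := MorphismProperty.of_isPullback
      ((IsPullback.of_hasPullback s.t s₁.t).map (Over.forget S)) hs
    have h2 : P e.left := hP (X.lo Z Z₁).ι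
    change P (e.left ≫ q₁.left)
    exact P.comp_mem _ _ h2 h1

end Fam

end K749.Clopen
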