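import Groth.Agent.AlgSt.K749.ClopenB
import Groth.Agent.Flat2G.FibreDegreeB
import Groth.Agent.S1482
/-!
# Étale local structure of finite open pieces
-/

set_option autoImplicit false

universe u v w

open CategoryTheory CategoryTheory.Limits AlgebraicGeometry TopologicalSpace Opposite

noncomputable section

namespace K749.Clopen

section scheme

variable {X T X' T' : Scheme.{u}} {f : X ⟶ T} {f' : X' ⟶ T'} {h : X' ⟶ X} {g : T' ⟶ T}

theorem universallyInjective_of_isPurelyInseparable (f : X ⟶ T) (x : X)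
    (hx : (f.residueFieldMap x).hom.IsPurelyInseparable) : UniversallyInjective (X.fromSpecResidueField x ≫ f) := by
  refine ((tfae_universallyInjective (X.fromSpecResidueField x ≫ f)).out 0 1).2 ?_
  intro K _ g₁ g₂ hg
  dsimp only at hg
  rw [← f.SpecMap_residueFieldMap_fromSpecResidueField x, ← Category.assoc, ← Category.assoc,
    cancel_mono] at hg
  obtain ⟨g₁, rfl⟩ := Spec.map_surjective g₁
  obtain ⟨g₂, rfl⟩ := Spec.map_surjective g₂
  rw [← Spec.map_comp, ← Spec.map_comp] at hg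
  have hg' := congrArg (fun k => k.hom) (Spec.map_injective hg)
  congr 1
  apply CommRingCat.hom_ext
  algebraize [(f.residueFieldMap x).hom]
  exact IsPurelyInseparable.injective_comp_algebraMap (T.residueField (f x)) (X.residueField x) _ hg'

theorem eq_of_isPurelyInseparable (sq : IsPullback h f' f g) (x : X)
    (hx : (f.residueFieldMap x).hom.IsPurelyInseparable) (z z' : X') (hz : h z = x) (hz' : h z' = x)
    (hzz : f' z = f' z') : z = z' := by
  have sq1 := IsPullback.of_hasPullback (X.fromSpecResidueField x) h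
  have := universallyInjective_of_isPurelyInseparable f x hx
  have h1 : UniversallyInjective (pullback.snd (X.fromSpecResidueField x) h ≫ f') :=
    MorphismProperty.of_isPullback (sq1.paste_vert sq) this
  have key : ∀ z : X', h z = x → z ∈ Set.range (pullback.snd (X.fromSpecResidueField x) h) := by
    intro z hz
    obtain ⟨y, -, hy⟩ := Scheme.exists_preimage_of_isPullback sq1 (IsLocalRing.closedPoint _) z (by
      rw [Scheme.fromSpecResidueField_apply, hz])
    exact ⟨y, hy⟩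
  obtain ⟨y, rfl⟩ := key z hz
  obtain ⟨y', rfl⟩ := key z' hz'
  rw [← Scheme.Hom.comp_apply, ← Scheme.Hom.comp_apply] at hzz
  rw [(pullback.snd (X.fromSpecResidueField x) h ≫ f').injective hzz]

theorem isFinite_bot (f : X ⟶ T) : IsFinite ((⊥ : X.Opens).ι ≫ f) := by
  have : IsEmpty (⊥ : X.Opens) := ⟨fun x => x.2⟩
  have : IsClosedImmersion ((⊥ : X.Opens).ι ≫ f) := by
    refine IsClosedImmersion.of_isPreimmersion _ ?_
    rw [Set.range_eq_empty]
    exact isClosed_empty
  infer_instance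

theorem isFinite_iSup [IsSeparated f] [LocallyOfFiniteType f] [LocallyQuasiFinite f] {J : Type*} [Finite J]
    (V : J → X.Opens) (hV : ∀ j, IsFinite ((V j).ι ≫ f)) (I : Set J) : IsFinite ((⨆ j ∈ I, V j).ι ≫ f) := by
  have hI : I.Finite := I.toFinite
  induction I, hI using Set.Finite.induction_on with
  | empty =>
    have : (⨆ j ∈ (∅ : Set J), V j) = ⊥ := by simp
    rw [this]
    exact isFinite_bot f
  | insert _ _ ih =>
    rename_i a s _ _
    rw [iSup_insert]
    have := hV a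
    exact Groth.Agent.Flat2G.FibreDegreeB.isFinite_sup f _ _

/-- Étale localisation of finite open pieces at a point of the base. -/
theorem exists_split (f : X ⟶ T) [LocallyOfFiniteType f] [LocallyQuasiFinite f] [IsSeparated f] (t : T) (n : ℕ)
    (x : Fin n → X) (hinj : Function.Injective x) (hs : ∀ i, f (x i) = t) :
    ∃ (U : Scheme.{u}) (g : U ⟶ T) (c : U), Etale g ∧ g c = t ∧
      ∀ {X' : Scheme.{u}} (h : X' ⟶ X) (f' : X' ⟶ U) (_ : IsPullback h f' f g)
        {K X'' : Scheme.{u}} [Subsingleton K] (b : K ⟶ U) (h' : X'' ⟶ X') (f'' : X'' ⟶ K) (_ : IsPullback h' f'' f' b)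
        (_ : ∀ k : K, b k = c) (Z : X''.Opens) (_ : ∀ z ∈ Z, ∃ i, h (h' z) = x i),
        ∃ Z' : X'.Opens, IsFinite (Z'.ι ≫ f') ∧ Z = h' ⁻¹ᵁ Z' := by
  obtain ⟨U, g, c, hg, hc, J, hJ, V, v, h1, -, h3⟩ := Groth.Agent.S1482.result f t x hinj hs
    (fun i => f.quasiFiniteAt (x i))
  refine ⟨U, g, c, hg, hc, ?_⟩
  intro X' h f' sq' K X'' _ b h' f'' sq'' hb Z hZ
  let e : X' ≅ pullback f g := sq'.isoPullback
  have he1 : e.hom ≫ pullback.fst f g = h := sq'.isoPullback_hom_fst
  have he2 : e.hom ≫ pullback.snd f g = f' := sq'.isoPullback_hom_snd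
  have : IsSeparated f' := MorphismProperty.of_isPullback sq' ‹_›
  have : LocallyOfFiniteType f' := MorphismProperty.of_isPullback sq' ‹_›
  have : LocallyQuasiFinite f' := MorphismProperty.of_isPullback sq' ‹_›
  let sqe : IsPullback (h' ≫ e.hom) f'' (pullback.snd f g) b :=
    sq''.of_iso (Iso.refl _) e (Iso.refl _) (Iso.refl _) (by simp) (by simp) (by simp [he2]) (by simp)
  let W : (Σ i, J i) → X'.Opens := fun j => e.hom ⁻¹ᵁ (V j.1 j.2)
  have hW : ∀ j, IsFinite ((W j).ι ≫ f') := by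
    intro j
    have := (h1 j.1 j.2).2.1
    have h2 : IsPullback e.hom f' (pullback.snd f g) (𝟙 U) :=
      IsPullback.of_horiz_isIso ⟨by rw [he2, Category.comp_id]⟩
    exact isFinite_pullback this h2
  let I : Set (Σ i, J i) := {j | ∃ z ∈ Z, (h' ≫ e.hom) z = v j.1 j.2}
  have hu : ∀ z : X'', pullback.snd f g ((h' ≫ e.hom) z) = c := by
    intro z
    rw [← Scheme.Hom.comp_apply, sqe.w, Scheme.Hom.comp_apply, hb]
  refine ⟨⨆ j ∈ I, W j, isFinite_iSup W hW I, ?_⟩
  ext z
  have hm : z ∈ h' ⁻¹ᵁ (⨆ j ∈ I, W j) ↔ ∃ j ∈ I, (h' ≫ e.hom) z ∈ V j.1 j.2 := by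
    change h' z ∈ (⨆ j ∈ I, W j) ↔ _
    rw [Opens.mem_iSup]
    constructor
    · rintro ⟨j, hj⟩
      rw [Opens.mem_iSup] at hj
      obtain ⟨hj1, hj2⟩ := hj
      exact ⟨j, hj1, hj2⟩
    · rintro ⟨j, hj1, hj2⟩
      refine ⟨j, ?_⟩
      rw [Opens.mem_iSup]
      exact ⟨hj1, hj2⟩
  change z ∈ Z ↔ z ∈ h' ⁻¹ᵁ (⨆ j ∈ I, W j)
  rw [hm]
  constructor
  · intro hz
    obtain ⟨i, hi⟩ := hZ z hz
    obtain ⟨j, hj⟩ := h3 ((h' ≫ e.hom) z) i (hu z) (by
      rw [← Scheme.Hom.comp_apply, Category.assoc, he1, Scheme.Hom.comp_apply, hi])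
    exact ⟨⟨i, j⟩, ⟨z, hz, hj⟩, by rw [hj]; exact (h1 i j).1⟩
  · rintro ⟨⟨i, j⟩, ⟨z', hz', hj'⟩, hj⟩
    have h4 := (h1 i j).2.2.2.1 _ hj (hu z)
    have h5 := eq_of_isPurelyInseparable sqe (v i j) (h1 i j).2.2.2.2.1.2 z z' h4 hj' (Subsingleton.elim _ _)
    rw [h5]
    exact hz'

end scheme

end K749.Clopen
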