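import Groth.Agent.AlgSt.K749.ClopenD
import Groth.Agent.AlgSt.K749.ClopenE
/-!
# The sheaf of finite open pieces is an étale algebraic space over `U`: charts
-/

set_option autoImplicit false

universe u v w

open CategoryTheory CategoryTheory.Limits AlgebraicGeometry TopologicalSpace Opposite

noncomputable section

namespace K749.Clopen

namespace Fam

variable {S : Scheme.{u}} {U : Over S} (X : Fam (Over.forget U))

/-- The map of an object of `Over U` to the terminal one. -/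
def toOne (A : Over U) : A ⟶ Over.mk (𝟙 U) := Over.homMk A.hom (Category.comp_id _)

@[simp] theorem comp_toOne {A B : Over U} (f : A ⟶ B) : f ≫ toOne B = toOne A := by
  apply Over.OverMorphism.ext
  exact Over.w f

theorem exists_image (A : Over U) (Z : (X.X.obj A).Opens) (hZ : IsFinite (Z.ι ≫ X.π A)) :
    ∃ (A' : Over U) (ρ : A' ⟶ A) (s : X.D A'), IsOpenImmersion ρ.left.left ∧ s.1 = X.X.map ρ ⁻¹ᵁ Z ∧
      ∀ (B : Over U) (b : B ⟶ A) (s' : X.D B), s'.1 = X.X.map b ⁻¹ᵁ Z → ∃ b' : B ⟶ A', b' ≫ ρ = b := by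
  have hfl : Flat (Z.ι ≫ X.π A) := inferInstance
  have hlfp : LocallyOfFinitePresentation (Z.ι ≫ X.π A) := inferInstance
  let R : A.left.left.Opens := ⟨Set.range (Z.ι ≫ X.π A), (Z.ι ≫ X.π A).isOpenMap.isOpen_range⟩
  have hR : ∀ a : A.left.left, a ∈ R ↔ ∃ z ∈ Z, X.π A z = a := by
    intro a
    constructor
    · rintro ⟨z, rfl⟩
      exact ⟨z.1, z.2, (Scheme.Hom.comp_apply Z.ι (X.π A) z).symm⟩
    · rintro ⟨z, hz, rfl⟩
      exact ⟨⟨z, hz⟩, Scheme.Hom.comp_apply Z.ι (X.π A) ⟨z, hz⟩⟩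
  have hFO : FO (X.π (Rs A R)) (X.X.map (Rsι A R) ⁻¹ᵁ Z) := by
    refine ⟨isFinite_pullback hZ (X.sq (Rsι A R)), ⟨fun a => ?_⟩⟩
    have ha : (Rsι A R).left.left a ∈ R := by
      have : (Rsι A R).left.left a ∈ Set.range (Rsι A R).left.left := ⟨a, rfl⟩
      rwa [range_Rsι] at this
    obtain ⟨z, hz, hza⟩ := (hR _).1 ha
    obtain ⟨z', hz', hza'⟩ := Scheme.exists_preimage_of_isPullback (X.sq (Rsι A R)) z a hza
    refine ⟨⟨z', ?_⟩, ?_⟩
    · change X.X.map (Rsι A R) z' ∈ Z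
      rw [hz']
      exact hz
    · rw [Scheme.Hom.comp_apply]
      exact hza'
  refine ⟨Rs A R, Rsι A R, ⟨_, hFO⟩, isOpenImmersion_Rsι A R, rfl, ?_⟩
  intro B b s' hs'
  obtain ⟨b', hb', -⟩ := existsUnique_Rs_lift (A := A) (R := R) b (by
    rintro _ ⟨β, rfl⟩
    obtain ⟨z, hz⟩ := s'.2.surj.surj β
    refine (hR _).2 ⟨X.X.map b z.1, ?_, ?_⟩
    · exact hs'.le z.2
    · rw [← hz, Scheme.Hom.comp_apply, ← Scheme.Hom.comp_apply, (X.sq b).w, Scheme.Hom.comp_apply]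
      rfl)
  exact ⟨b', hb'⟩

theorem exists_nbhd (u : U.left) (n : ℕ) (x : Fin n → X.X.obj (Over.mk (𝟙 U))) (hinj : Function.Injective x)
    (hs : ∀ i, X.π (Over.mk (𝟙 U)) (x i) = u) :
    ∃ (C : Over U) (c : C.left.left), Etale C.hom.left ∧ C.hom.left c = u ∧
      ∀ (B : Over U) [Subsingleton B.left.left] (b : B ⟶ C) (_ : ∀ k, b.left.left k = c) (Z : X.D B)
        (_ : ∀ z ∈ Z.1, ∃ i, X.X.map (toOne B) z = x i),
        ∃ Z' : (X.X.obj C).Opens, IsFinite (Z'.ι ≫ X.π C) ∧ Z.1 = X.X.map b ⁻¹ᵁ Z' := by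
  obtain ⟨V, g, c, hg, hc, H⟩ := exists_split (X.π (Over.mk (𝟙 U))) u n x hinj hs
  let C : Over U := Over.mk (Over.homMk g rfl : Over.mk (g ≫ U.hom) ⟶ U)
  refine ⟨C, c, hg, hc, ?_⟩
  intro B _ b hb Z hZ
  exact H (X.X.map (toOne C)) (X.π C) (X.sq (toOne C)) (K := B.left.left) b.left.left (X.X.map b) (X.π B) (X.sq b) hb Z.1
    (by
      intro z hz
      obtain ⟨i, hi⟩ := hZ z hz
      refine ⟨i, ?_⟩
      rw [← hi, ← Scheme.Hom.comp_apply, ← X.X.map_comp, comp_toOne])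

/-- Étale charts of the sheaf of finite open pieces. -/
theorem exists_charts : ∃ (Λ : Type u) (A : Λ → Over U) (s : ∀ l, X.D (A l)), (∀ l, Etale (A l).hom.left) ∧
    ∀ (T : Over U) (Z : X.D T) (τ : T.left.left), ∃ (l : Λ) (B : Over U) (a : B ⟶ T) (b : B ⟶ A l),
      τ ∈ Set.range a.left.left ∧ X.res a Z = X.res b (s l) := by
  let κ := {q : Σ (_ : U.left) (n : ℕ), (Fin n → X.X.obj (Over.mk (𝟙 U))) // Function.Injective q.2.2 ∧
    ∀ i, X.π (Over.mk (𝟙 U)) (q.2.2 i) = q.1}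
  choose C c hC hc H using fun q : κ => X.exists_nbhd q.1.1 q.1.2.1 q.1.2.2 q.2.1 q.2.2
  let Λ := Σ q : κ, {Z' : (X.X.obj (C q)).Opens // IsFinite (Z'.ι ≫ X.π (C q))}
  choose A ρ s hρ hs Hs using fun l : Λ => X.exists_image (C l.1) l.2.1 l.2.2
  refine ⟨Λ, A, s, ?_, ?_⟩
  · intro l
    have h1 := hρ l
    have h2 := hC l.1
    rw [← Over.w (ρ l), Over.comp_left]
    infer_instance
  · intro T Z τ
    let Fτ : Set (X.X.obj (Over.mk (𝟙 U))) := {y | ∃ z ∈ Z.1, X.π T z = τ ∧ X.X.map (toOne T) z = y}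
    have hF : Fτ.Finite := by
      have h1 : ((Z.1.ι ≫ X.π T) ⁻¹' {τ}).Finite := by
        have := Z.2.fin
        exact (Z.1.ι ≫ X.π T).finite_preimage_singleton τ
      refine (h1.image (fun z => X.X.map (toOne T) z.1)).subset ?_
      rintro _ ⟨z, hz, hzτ, rfl⟩
      exact ⟨⟨z, hz⟩, by
        change (Z.1.ι ≫ X.π T) _ = τ
        rw [Scheme.Hom.comp_apply]; exact hzτ, rfl⟩
    obtain ⟨n, x, hx, hxF⟩ : ∃ (n : ℕ) (x : Fin n → X.X.obj (Over.mk (𝟙 U))), Function.Injective x ∧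
        Set.range x = Fτ := by
      have := hF.to_subtype
      obtain ⟨n, ⟨e⟩⟩ := Finite.exists_equiv_fin Fτ
      refine ⟨n, fun i => (e.symm i).1, fun i j h => e.symm.injective (Subtype.ext h), ?_⟩
      ext y
      constructor
      · rintro ⟨i, rfl⟩
        exact (e.symm i).2
      · intro hy
        exact ⟨e ⟨y, hy⟩, by simp⟩
    have hxu : ∀ i, X.π (Over.mk (𝟙 U)) (x i) = T.hom.left τ := by
      intro i
      have : x i ∈ Fτ := hxF ▸ ⟨i, rfl⟩
      obtain ⟨z, hz, hzτ, hzx⟩ := this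
      rw [← hzx, ← Scheme.Hom.comp_apply, (X.sq (toOne T)).w, Scheme.Hom.comp_apply, hzτ]
      rfl
    let q : κ := ⟨⟨T.hom.left τ, n, x⟩, hx, hxu⟩
    -- a point of the fibre product
    have sq : IsPullback (pullback.fst T.hom (C q).hom) (pullback.snd T.hom (C q).hom) T.hom (C q).hom :=
      IsPullback.of_hasPullback _ _
    obtain ⟨w, hw1, hw2⟩ := Scheme.exists_preimage_of_isPullback (sq.map (Over.forget S)) τ (c q) (hc q).symm
    let P : Over U := Over.mk (pullback.fst T.hom (C q).hom ≫ T.hom)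
    let p₁ : P ⟶ T := Over.homMk (pullback.fst T.hom (C q).hom) rfl
    let p₂ : P ⟶ C q := Over.homMk (pullback.snd T.hom (C q).hom) pullback.condition.symm
    let W : Scheme.{u} := (pullback T.hom (C q).hom).left
    let jw : Spec (W.residueField w) ⟶ W := W.fromSpecResidueField w
    let B₀ : Over S := Over.mk (jw ≫ (pullback T.hom (C q).hom).hom)
    let j₀ : B₀ ⟶ pullback T.hom (C q).hom := Over.homMk jw rfl
    let B : Over U := Over.mk (j₀ ≫ P.hom)
    let j : B ⟶ P := Over.homMk j₀ rfl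
    have hB : Subsingleton B.left.left := inferInstanceAs (Subsingleton (Spec (W.residueField w)))
    have hj : ∀ k, j.left.left k = w := fun k => by
      change jw k = w
      exact Scheme.fromSpecResidueField_apply w k
    have hjp1 : ∀ k, (j ≫ p₁).left.left k = τ := fun k => by
      change (j.left.left ≫ p₁.left.left) k = τ
      rw [Scheme.Hom.comp_apply, hj]
      exact hw1
    have hjp2 : ∀ k, (j ≫ p₂).left.left k = c q := fun k => by
      change (j.left.left ≫ p₂.left.left) k = c q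
      rw [Scheme.Hom.comp_apply, hj]
      exact hw2
    obtain ⟨Z', hZ', hZZ'⟩ := H q B (j ≫ p₂) hjp2 (X.res (j ≫ p₁) Z) (by
      intro z hz
      have : X.X.map (toOne B) z ∈ Fτ := by
        refine ⟨X.X.map (j ≫ p₁) z, hz, ?_, ?_⟩
        · rw [← Scheme.Hom.comp_apply, (X.sq (j ≫ p₁)).w, Scheme.Hom.comp_apply]
          exact hjp1 _
        · rw [← Scheme.Hom.comp_apply, ← X.X.map_comp, comp_toOne]
      rw [← hxF] at this
      obtain ⟨i, hi⟩ := this
      exact ⟨i, hi.symm⟩)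
    obtain ⟨b, hb⟩ := Hs ⟨q, Z', hZ'⟩ B (j ≫ p₂) _ hZZ'
    refine ⟨⟨q, Z', hZ'⟩, B, j ≫ p₁, b, ⟨IsLocalRing.closedPoint _, hjp1 _⟩, ?_⟩
    apply D.ext
    rw [hZZ', res_val, hs, ← hb, X.X.map_comp]
    rfl

end Fam

end K749.Clopen
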