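import Groth.Agent.AlgSt.K749.ClopenF
import Groth.Agent.AlgSp.K610.EtaleMor
import Groth.Agent.AlgSp.K619.LocSurj
/-!
# The sheaf of finite open pieces is an étale algebraic space over `U`
-/

set_option autoImplicit false

universe u v w

open CategoryTheory CategoryTheory.Limits AlgebraicGeometry TopologicalSpace Opposite

noncomputable section

namespace K749.Clopen

theorem prop_of_jointly_surjective (P : MorphismProperty Scheme.{u}) [IsZariskiLocalAtSource P] {Y Z : Scheme.{u}}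
    (f : Y ⟶ Z) {Λ : Type u} (W : Λ → Scheme.{u}) (j : ∀ l, W l ⟶ Y) (hj : ∀ l, IsOpenImmersion (j l))
    (hs : ∀ y : Y, ∃ l, y ∈ Set.range (j l)) (hf : ∀ l, P (j l ≫ f)) : P f := by
  let 𝒰 : Y.OpenCover :=
    { I₀ := Λ
      X := W
      f := j
      mem₀ := by
        rw [Scheme.presieve₀_mem_precoverage_iff]
        exact ⟨hs, hj⟩ }
  exact (IsZariskiLocalAtSource.iff_of_openCover (P := P) 𝒰).2 hf

namespace Fam

variable {S : Scheme.{u}} {U : Over S} (X : Fam (Over.forget U))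

/-- An étale atlas of the sheaf of finite open pieces. -/
theorem exists_atlas : ∃ (V : Over S) (σ : X.ESec V), Etale σ.t.left ∧ AlgSp.RepWith @Surjective (X.sec σ) := by
  obtain ⟨Λ, A, s, hA, H⟩ := X.exists_charts
  obtain ⟨V, d, j, y, hjd, hjy, hj, hjs, hP⟩ := K619.LocSurj.exists_sigma (fun l => (A l).left) (fun l => (A l).hom)
    (fun l => X.sec ⟨(A l).hom, X.res (Over.homMk (𝟙 _)) (s l)⟩)
  obtain ⟨σ, rfl⟩ := X.exists_sec y
  have hσ : ∀ l, σ.map (j l) = ⟨(A l).hom, X.res (Over.homMk (𝟙 _)) (s l)⟩ := by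
    intro l
    apply X.sec_injective
    rw [← map_comp_sec]
    exact hjy l
  have ht : ∀ l, j l ≫ σ.t = (A l).hom := fun l => congrArg ESec.t (hσ l)
  have het : Etale σ.t.left := by
    refine prop_of_jointly_surjective @Etale σ.t.left (fun l => (A l).left.left) (fun l => (j l).left) hj hjs ?_
    intro l
    have := hA l
    rw [← ht l] at this
    exact this
  refine ⟨V, σ, het, ?_⟩
  have hrep := X.repWith_sec @Etale (fun f _ => inferInstance) σ het
  refine ⟨hrep.1, ?_⟩
  intro T V' g fst snd sq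
  obtain ⟨s₁, rfl⟩ := X.exists_sec g
  obtain ⟨fst, rfl⟩ := (AlgSp.yon S).map_surjective fst
  constructor
  intro τ
  obtain ⟨l, B, a, b, hτ, hab⟩ := H (Over.mk s₁.t) s₁.Z τ
  have hw : (AlgSp.yon S).map (b.left ≫ j l) ≫ X.sec σ = (AlgSp.yon S).map a.left ≫ X.sec s₁ := by
    rw [Functor.map_comp, Category.assoc, map_comp_sec, hσ, map_comp_sec_eq_iff, ESec.map_eq_map_iff]
    refine ⟨?_, ?_⟩
    · change b.left ≫ (A l).hom = a.left ≫ s₁.t
      rw [Over.w b]
      exact (Over.w a).symm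
    · intro C φ₁ φ₂ k h1 h2
      change X.res φ₁ (X.res _ (s l)) = X.res φ₂ s₁.Z
      have hk : k ≫ B.hom = C.hom := by
        rw [← Over.w φ₂, h2, Category.assoc]
        congr 1
        exact (Over.w a).symm
      let κ : C ⟶ B := Over.homMk k hk
      have h3 := congrArg (X.res κ) hab
      rw [res_res, res_res] at h3
      rw [res_res]
      refine Eq.trans ?_ (Eq.trans h3.symm ?_)
      · congr 1
        apply Over.OverMorphism.ext
        change φ₁.left ≫ 𝟙 _ = k ≫ b.left
        rw [Category.comp_id, h1]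
      · congr 1
        apply Over.OverMorphism.ext
        exact h2.symm
  obtain ⟨m, hm⟩ := (AlgSp.yon S).map_surjective (sq.lift _ _ hw)
  have hm2 : m ≫ snd = a.left := (AlgSp.yon S).map_injective (by rw [Functor.map_comp, hm, sq.lift_snd])
  obtain ⟨β, rfl⟩ := hτ
  refine ⟨m.left β, ?_⟩
  have h5 : (m.left ≫ snd.left) β = a.left.left β := by
    rw [← Over.comp_left, hm2]
  exact h5

theorem isAlgSpace : AlgSp.IsAlgSpace X.E := by
  obtain ⟨V, σ, h1, h2⟩ := X.exists_atlas
  exact ⟨X.representable_diag, V, X.sec σ, X.repWith_sec @Etale (fun f _ => inferInstance) σ h1, h2⟩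

theorem isEtaleMor_proj : AlgSp.IsEtaleMor X.proj := by
  obtain ⟨V, σ, h1, h2⟩ := X.exists_atlas
  refine K610.EtaleMor.isEtaleMor_of_chart (AlgSp.IsAlgSpace.yon_obj U)
    (X.repWith_sec @Etale (fun f _ => inferInstance) σ h1) h2 ?_
  rw [sec_proj, AlgSp.repWith_yon_map_iff]
  exact h1

/-- Over a field a lqf scheme has a finite open piece through every point. -/
theorem exists_FO_of_field {K : Type u} [Field K] {Y : Scheme.{u}} (f : Y ⟶ Spec (.of K)) (hf : LocallyQuasiFinite f) (x : Y) :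
    ∃ Z : Y.Opens, x ∈ Z ∧ FO f Z := by
  have hX : IsLocallyArtinian Y := .of_locallyQuasiFinite f
  let Z : Y.Opens := ⟨{x}, isOpen_discrete _⟩
  have : Subsingleton Z := ⟨fun a b => Subtype.ext (a.2.trans b.2.symm)⟩
  have : CompactSpace Z := Finite.compactSpace
  have : QuasiCompact (Z.ι ≫ f) := quasiCompact_of_compactSpace _
  refine ⟨Z, rfl, IsFinite.of_locallyQuasiFinite _, ⟨fun a => ⟨⟨x, rfl⟩, Subsingleton.elim _ _⟩⟩⟩

theorem isSurjectiveMor_proj (hX : Surjective (X.π (Over.mk (𝟙 U)))) : AlgSp.IsSurjectiveMor X.proj := by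
  intro q
  induction q using AlgSp.Points.ind with
  | h q =>
    obtain ⟨K, str, ⟨t⟩⟩ := q
    let A : Over U := Over.mk t
    have h1 : Surjective (X.π A) := MorphismProperty.of_isPullback (X.sq (toOne A)) hX
    obtain ⟨x, hx⟩ := h1.surj (IsLocalRing.closedPoint K : Spec (.of K))
    obtain ⟨Z, -, hZ⟩ := exists_FO_of_field (K := K) (f := X.π A) (hf := X.lqf A) x
    refine ⟨AlgSp.Points.mk ⟨K, str, ⟨⟨t, ⟨Z, hZ⟩⟩⟩⟩, ?_⟩
    rfl

end Fam

end K749.Clopen
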