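import Groth.Agent.AlgSt.K738.YonProps
import Groth.Agent.AlgSt.K739.Descent
import Groth.Agent.AlgSt.K739.Sect
import Groth.Agent.AlgSt.K739.Alg
import Groth.Agent.AlgSt.K746.Sec
import Groth.Agent.AlgSt.K735.Top
import Groth.Agent.AlgSt.K740.SpIso
import Groth.Agent.AlgSp.K595.DiagRel
import Groth.Agent.AlgSp.K596.SepSurj
import Groth.Agent.AlgSp.K598.Site
import Groth.Agent.AlgSt.K735.SpFp
/-!
# Morphisms from a reduced stack to an algebraic space are determined on a proper surjective cover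

* `eq_of_dominated`: two maps from a reduced scheme to an algebraic space which agree after a universally closed
  surjection are equal.
-/

set_option autoImplicit false
set_option backward.isDefEq.respectTransparency false
set_option backward.isDefEq.respectTransparency.types false

universe w' v' w v u

open CategoryTheory CategoryTheory.Limits AlgebraicGeometry Opposite K735.Fib K735.Fp AlgSp

namespace K749.Dom

variable {S : Scheme.{u}}

theorem eq_of_dominated {N : Sp S} (hN : IsAlgSpace N) {U : Over S} [AlgebraicGeometry.IsReduced U.left]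
    {a b : (yon S).obj U ⟶ N} {F : Sp S} {π : F ⟶ (yon S).obj U} (h1 : IsUnivClosedMor π) (h2 : IsSurjectiveMor π)
    (h : π ≫ a = π ≫ b) : a = b := by
  obtain ⟨E, fst, e, sq, he⟩ := K597.exists_sq (K595.DiagAlg.repWith_diag_lft hN) (prod.lift a b)
  have hmono : Mono ((yon S).map e) := by
    have : Mono (Limits.diag N) := inferInstance
    exact (MorphismProperty.monomorphisms (Sp S)).of_isPullback sq this
  have hmono' : Mono e := (yon S).mono_of_mono_map hmono
  have he' : LocallyOfFiniteType e.left := he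
  have hw1 : fst = (yon S).map e ≫ a := by
    have h1 : (fst ≫ Limits.diag N) ≫ prod.fst = ((yon S).map e ≫ prod.lift a b) ≫ prod.fst := by rw [sq.w]
    rwa [Category.assoc, Category.assoc, prod.lift_fst, prod.lift_fst, Category.comp_id] at h1
  have hw2 : fst = (yon S).map e ≫ b := by
    have h1 : (fst ≫ Limits.diag N) ≫ prod.snd = ((yon S).map e ≫ prod.lift a b) ≫ prod.snd := by rw [sq.w]
    rwa [Category.assoc, Category.assoc, prod.lift_snd, prod.lift_snd, Category.comp_id] at h1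
  have hw : (π ≫ a) ≫ Limits.diag N = π ≫ prod.lift a b := by
    apply Limits.prod.hom_ext
    · simp
    · rw [Category.assoc, Category.assoc, Category.assoc, prod.lift_snd, prod.lift_snd, Category.comp_id, h]
  let ρ : F ⟶ (yon S).obj E := sq.lift (π ≫ a) π hw
  have hρ : ρ ≫ (yon S).map e = π := sq.lift_snd _ _ _
  have sq1 : IsPullback (𝟙 F) ρ π ((yon S).map e) := by
    have s1 : IsPullback (𝟙 F) ρ ρ (𝟙 ((yon S).obj E)) := IsPullback.of_horiz_isIso ⟨by simp⟩
    have s2 : IsPullback (𝟙 ((yon S).obj E)) (𝟙 ((yon S).obj E)) ((yon S).map e) ((yon S).map e) :=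
      IsKernelPair.id_of_mono _
    have s3 := s1.paste_vert s2
    rw [hρ] at s3
    exact s3
  have hs : Function.Surjective (Points.map ρ) := K596.Pts.surjective_of_isPullback sq1 h2
  have hc : IsUnivClosedMor ((yon S).map e) := K596.SepSurj.isUnivClosedMor_of_precomp hs (by rw [hρ]; exact h1)
  have hc' : UniversallyClosed e.left := (K738.isUnivClosedMor_yon_iff e).1 hc
  have hm : Mono e.left := inferInstance
  have := K738.isClosedImmersion_of_univClosed e.left
  have hsurj : Surjective e.left := by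
    refine (repWith_yon_map_iff _ e).1 ((K609.Points.repWith_surjective_iff (representable_yon_map e)).2 ?_)
    intro x
    obtain ⟨y, rfl⟩ := h2 x
    exact ⟨Points.map ρ y, by rw [← Points.map_comp, hρ]⟩
  have hi : IsIso e.left := isIso_of_isClosedImmersion_of_surjective e.left
  have hi' : IsIso e := by
    have : IsIso ((Over.forget S).map e) := hi
    exact isIso_of_reflects_iso e (Over.forget S)
  rw [← cancel_epi ((yon S).map e), ← hw1, ← hw2]

open K734.Fib (wl wr)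

section Stack

variable {𝒳 𝒵 : BasedCategory.{v', w'} (Over S)} {𝒲 : BasedCategory.{v, w} (Over S)}

/-- Objects of the target of a flat, locally finitely presented, surjective representable functor come fppf locally
from its source. -/
theorem locSurj_of_fppf (h𝒳 : FibCat.IsFibGrpd 𝒳.p) (x : 𝒲 ⥤ᵇ 𝒳) (h1 : AlgSt.RepByAlgSpWith (LocP @Flat) x)
    (h2 : AlgSt.RepByAlgSpWith (LocP @LocallyOfFinitePresentation) x)
    (h3 : AlgSt.RepByAlgSpWith IsSurjectiveMor x) : K746.LocSurj (AlgSp.J S) x := by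
  intro z
  obtain ⟨V, k, v, ⟨⟨hs, hf⟩, hl⟩, ⟨i⟩⟩ := K739.Descent.exists_fppf_lift x h1 h2 h3 (yonF h𝒳 z rfl)
  have := hs; have := hf; have := hl
  refine ⟨Sieve.generate (Presieve.singleton k),
    K598.Site.mem_J_of_single k ⟨V, 𝟙 V, k, Presieve.singleton_self k, Category.id_comp k⟩, ?_⟩
  rintro T f ⟨V', l, _, ⟨⟩, rfl⟩
  refine ⟨v.obj (Over.mk l), (isoApp i (Over.mk l)).hom ≫ (yonF h𝒳 z rfl).map (toId (Over.mk (l ≫ k))) ≫
    (yonFIso h𝒳 z rfl).hom, ?_⟩
  have e1 : 𝒳.p.map (isoApp i (Over.mk l)).hom = eqToHom _ := (vert_isoApp i (Over.mk l)).map_eq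
  have e2 := (vert_yonFIso h𝒳 z rfl).map_eq
  have e0 : 𝒳.p.obj (x.obj (v.obj (Over.mk l))) = T := (x.w_obj _).trans (v.w_obj _)
  refine IsHomLift.of_fac' _ _ _ e0 rfl ?_
  rw [Functor.map_comp, Functor.map_comp, e1, e2, map_map]
  simp only [Category.assoc, eqToHom_trans, eqToHom_trans_assoc, eqToHom_refl, Category.comp_id]
  rfl

/-- Two functors to the category of a sheaf agreeing after a representable functor. -/
theorem comp_eq_of_iso {𝒵' : BasedCategory.{v, w} (Over S)} {U : Over S} (x : FibCat.overCat U ⥤ᵇ 𝒳) (s : 𝒵' ⥤ᵇ 𝒳)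
    {N : Sp S} (A B : 𝒳 ⥤ᵇ AlgSt.ofSp N) (h : Nonempty (BasedFunctor.comp s A ≅ BasedFunctor.comp s B)) {F : Sp S}
    (e : AlgSt.ofSp F ⥤ᵇ FibCat.fp x s) :
    AlgSt.spMapOfOver (BasedFunctor.comp e (FibCat.fpFst x s)) ≫ K735.SpFp.unchart (BasedFunctor.comp x A) =
      AlgSt.spMapOfOver (BasedFunctor.comp e (FibCat.fpFst x s)) ≫ K735.SpFp.unchart (BasedFunctor.comp x B) := by
  obtain ⟨i⟩ := h
  have key : ∀ A : 𝒳 ⥤ᵇ AlgSt.ofSp N, Nonempty (AlgSt.ofSpMap (AlgSt.spMapOfOver (BasedFunctor.comp e (FibCat.fpFst x s))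
      ≫ K735.SpFp.unchart (BasedFunctor.comp x A)) ≅
      BasedFunctor.comp e (BasedFunctor.comp (FibCat.fpSnd x s) (BasedFunctor.comp s A))) := by
    intro A
    obtain ⟨j⟩ := K735.SpFp.exists_iso_chart (BasedFunctor.comp x A)
    obtain ⟨k⟩ := K735.Rep.exists_iso_spMapOfOver (BasedFunctor.comp e (FibCat.fpFst x s))
    have k1 : BasedFunctor.comp (AlgSt.ofSpMap (AlgSt.spMapOfOver (BasedFunctor.comp e (FibCat.fpFst x s))))
        (AlgSt.ofSpMap (K735.SpFp.unchart (BasedFunctor.comp x A))) ≅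
        BasedFunctor.comp (BasedFunctor.comp e (FibCat.fpFst x s)) (K735.SpFp.chart (K735.SpFp.unchart
          (BasedFunctor.comp x A))) := (wr k (K735.SpFp.chart (K735.SpFp.unchart (BasedFunctor.comp x A)))).symm
    have k2 : BasedFunctor.comp (BasedFunctor.comp e (FibCat.fpFst x s)) (K735.SpFp.chart (K735.SpFp.unchart
          (BasedFunctor.comp x A))) ≅ BasedFunctor.comp (BasedFunctor.comp e (FibCat.fpFst x s))
          (BasedFunctor.comp x A) := wl _ j.symm
    have k3 : BasedFunctor.comp e (BasedFunctor.comp (BasedFunctor.comp (FibCat.fpFst x s) x) A) ≅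
        BasedFunctor.comp e (BasedFunctor.comp (BasedFunctor.comp (FibCat.fpSnd x s) s) A) :=
      wl e (wr (FibCat.fpIso x s) A)
    exact ⟨k1 ≪≫ k2 ≪≫ k3⟩
  obtain ⟨a⟩ := key A
  obtain ⟨b⟩ := key B
  exact K735.Rep.ofSpMap_injective (a ≪≫ wl e (wl (FibCat.fpSnd x s) i) ≪≫ b.symm)

/-- Two functors from a reduced algebraic stack to an algebraic space which agree after a representable, universally
closed surjection agree. -/
theorem nonempty_iso_of_dominated {𝒳 : AlgSt.Cat S} (h𝒳 : AlgSt.IsAlgStack Scheme.fppfPrecoverage 𝒳)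
    (hred : AlgSt.SmoothLocally (fun X => AlgebraicGeometry.IsReduced X) 𝒳) (s : 𝒲 ⥤ᵇ 𝒳)
    (hs : AlgSt.RepByAlgSpWith (IsUnivClosedMor ⊓ IsSurjectiveMor) s) {N : Sp S} (hN : IsAlgSpace N)
    (A B : 𝒳 ⥤ᵇ AlgSt.ofSp N) (h : Nonempty (BasedFunctor.comp s A ≅ BasedFunctor.comp s B)) :
    Nonempty (A ≅ B) := by
  obtain ⟨U, x, hx, hx'⟩ := h𝒳.atlas
  have hU : AlgebraicGeometry.IsReduced U.left := hred U x hx
  have hl := locSurj_of_fppf h𝒳.isStack.1 x
    (K739.Alg.repByAlgSpWith_mono (fun _ _ _ h => K597.locP_mono (fun A B f hf => by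
      have := hf
      infer_instance) h) hx)
    (K739.Alg.repByAlgSpWith_mono (fun _ _ _ h => K597.locP_mono (fun A B f hf => by
      have := hf
      infer_instance) h) hx) hx'
  obtain ⟨F, e, he, h1, h2⟩ := hs U x
  have hab := eq_of_dominated hN h1 h2 (comp_eq_of_iso x s A B h e)
  obtain ⟨i⟩ := K735.SpFp.exists_iso_chart (BasedFunctor.comp x A)
  obtain ⟨j⟩ := K735.SpFp.exists_iso_chart (BasedFunctor.comp x B)
  have hxAB : Nonempty (BasedFunctor.comp x A ≅ BasedFunctor.comp x B) := ⟨i ≪≫ eqToIso (by rw [hab]) ≪≫ j.symm⟩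
  rw [K746.nonempty_iso_ofPsh_iff] at hxAB ⊢
  exact K746.eq_of_locSurj hl ((isSheaf_iff_isSheaf_of_type _ _).1 N.property) hxAB

/-- A section of a functor bijective on geometric points is surjective on points. -/
theorem surjective_section (h𝒳 : FibCat.IsFibGrpd 𝒳.p) {M : Sp S} (f : 𝒳 ⥤ᵇ AlgSt.ofSp M)
    (hf : AlgSt.GeomPtBij f) (s : AlgSt.ofSp M ⥤ᵇ 𝒳) (e : BasedFunctor.comp s f ≅ BasedFunctor.id (AlgSt.ofSp M)) :
    Function.Surjective (AlgSt.Points.map s) := by
  intro q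
  obtain ⟨p, rfl⟩ := AlgSt.Points.mk_surjective q
  let Ω := AlgebraicClosure p.K
  let c : Spec (CommRingCat.of Ω) ⟶ Spec (CommRingCat.of p.K) := Spec.map (CommRingCat.ofHom (algebraMap p.K Ω))
  let w : Spec (CommRingCat.of Ω) ⟶ S := c ≫ p.str
  let g : (Over.mk w : Over S) ⟶ Over.mk p.str := Over.homMk c rfl
  obtain ⟨y, hy, φ, -⟩ := K735.Pts.exists_restrict h𝒳 p w g
  let x : 𝒳.p.Fiber (Over.mk w) := ⟨y, hy⟩
  let z : (AlgSt.ofSp M).obj := ⟨Over.mk w, AlgSt.fibSec f x⟩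
  let x' : 𝒳.p.Fiber (Over.mk w) := ⟨s.obj z, s.w_obj z⟩
  have hx' : AlgSt.fibSec f x' = AlgSt.fibSec f x := by
    rw [K746.fibSec_eq_iff]
    exact (K746.nonempty_iso_ofPsh_iff.1 ⟨e⟩) z
  obtain ⟨i⟩ := (hf Ω w).2 x' x hx'
  refine ⟨AlgSt.Points.mk ⟨Ω, w, z, rfl⟩, ?_⟩
  rw [AlgSt.Points.map_mk]
  exact K735.Pts.mk_eq_of_hom (p := AlgSt.FPt.map s ⟨Ω, w, z, rfl⟩) (q := p) (i.hom.1 ≫ φ)

/-- S18335, with the hypotheses used. -/
theorem isCoarseModuli_of_section {𝒳 : AlgSt.Cat S} (h𝒳 : AlgSt.IsAlgStack Scheme.fppfPrecoverage 𝒳)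
    (hred : AlgSt.SmoothLocally (fun X => AlgebraicGeometry.IsReduced X) 𝒳) {M : Sp S} (hM : IsAlgSpace M)
    (f : 𝒳 ⥤ᵇ AlgSt.ofSp M) (hf₁ : AlgSt.IsSeparatedMor f) (hf₅ : AlgSt.GeomPtBij f)
    (s : AlgSt.ofSp M ⥤ᵇ 𝒳) (e : BasedFunctor.comp s f ≅ BasedFunctor.id (AlgSt.ofSp M)) :
    AlgSt.IsCoarseModuli f := by
  have h1 : AlgSt.RepByAlgSpWith IsProperMor s := K739.Sect.repByAlgSpWith_section f s e hf₁
  have h2 : AlgSt.RepByAlgSpWith IsSurjectiveMor s :=
    (K735.Top.repByAlgSpWith_surjective_iff h𝒳.isStack.1 (K735.Rep.isFibGrpd_ofSp M)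
      (K739.Alg.repByAlgSp1_of h1)).1 (surjective_section h𝒳.isStack.1 f hf₅ s e)
  have h3 : AlgSt.RepByAlgSpWith (IsUnivClosedMor ⊓ IsSurjectiveMor) s :=
    K740.SpIso.repByAlgSpWith_inf (K739.Alg.repByAlgSpWith_mono (fun _ _ _ h => h.2.2) h1) h2
  refine ⟨⟨hM, fun N hN φ => ?_⟩, hf₅⟩
  obtain ⟨i⟩ := K735.Rep.exists_iso_spMap (BasedFunctor.comp s φ)
  refine ⟨K735.Rep.spMap (BasedFunctor.comp s φ), ?_, ?_⟩
  · refine nonempty_iso_of_dominated h𝒳 hred s h3 hN _ _ ⟨?_⟩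
    have k1 : BasedFunctor.comp (BasedFunctor.comp s f) (AlgSt.ofSpMap (K735.Rep.spMap (BasedFunctor.comp s φ))) ≅
      BasedFunctor.comp (BasedFunctor.id _) (AlgSt.ofSpMap (K735.Rep.spMap (BasedFunctor.comp s φ))) := wr e _
    exact k1 ≪≫ i.symm
  · rintro g ⟨j⟩
    apply K735.Rep.ofSpMap_injective
    have k1 : BasedFunctor.comp (BasedFunctor.comp s f) (AlgSt.ofSpMap g) ≅
      BasedFunctor.comp (BasedFunctor.id _) (AlgSt.ofSpMap g) := wr e _
    have k2 : BasedFunctor.comp s (BasedFunctor.comp f (AlgSt.ofSpMap g)) ≅ BasedFunctor.comp s φ := wl s j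
    exact k1.symm ≪≫ k2 ≪≫ i

end Stack

end K749.Dom
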