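import Groth.Agent.AlgSt.K749.SmallCls
import Groth.Agent.CurvSt.K742.AtlasFam0
import Groth.Agent.AlgSp.K651.Sigma
import Groth.Agent.AlgSt.K742.Sq
import Mathlib.RingTheory.Henselian
/-!
# A separated smooth chart lifting all quotient points of a henselian local ring (S18326 from S18310)
-/

set_option autoImplicit false
set_option backward.isDefEq.respectTransparency false
set_option backward.isDefEq.respectTransparency.types false

universe w' v' w v u

open CategoryTheory CategoryTheory.Limits AlgebraicGeometry Opposite K735.Fib K735.Fp AlgSp IsLocalRing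
  K594.Cover

namespace K749.Hens

/-- Quotients of henselian local rings are henselian. -/
theorem henselianLocalRing_quotient (R : Type u) [CommRing R] [HenselianLocalRing R] (J : Ideal R)
    (hJ : J ≠ ⊤) : HenselianLocalRing (R ⧸ J) := by
  have hnt : Nontrivial (R ⧸ J) := Ideal.Quotient.nontrivial_iff.mpr hJ
  have hloc : IsLocalRing (R ⧸ J) :=
    IsLocalRing.of_surjective' (Ideal.Quotient.mk J) Ideal.Quotient.mk_surjective
  have hlh : IsLocalHom (Ideal.Quotient.mk J) := Ideal.Quotient.mk_surjective.isLocalHom _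
  refine ⟨?_⟩
  intro f hf a₀ h1 h2
  obtain ⟨F, hF, -, hFm⟩ := Polynomial.lifts_and_degree_eq_and_monic (f := Ideal.Quotient.mk J)
    (by
      rw [Polynomial.mem_lifts]
      exact Polynomial.map_surjective _ Ideal.Quotient.mk_surjective f) hf
  obtain ⟨b, rfl⟩ := Ideal.Quotient.mk_surjective a₀
  rw [← hF, Polynomial.eval_map_apply] at h1
  rw [← hF, Polynomial.derivative_map, Polynomial.eval_map_apply] at h2
  obtain ⟨a, ha, ha'⟩ := HenselianLocalRing.is_henselian F hFm b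
    ((mem_maximalIdeal _).mpr fun hu => (mem_maximalIdeal _).mp h1 (hu.map _))
    (isUnit_of_map_unit (Ideal.Quotient.mk J) _ h2)
  refine ⟨Ideal.Quotient.mk J a, ?_, ?_⟩
  · rw [← hF]
    exact Polynomial.IsRoot.map ha
  · rw [← map_sub]
    exact (mem_maximalIdeal _).mpr fun hu =>
      (mem_maximalIdeal _).mp ha' (isUnit_of_map_unit (Ideal.Quotient.mk J) _ hu)

variable {S : Scheme.{u}}

/-- A small family of smooth affine charts gives one separated smooth chart. -/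
theorem exists_chart_of_family {𝒵 : AlgSt.Cat S} (h𝒵 : AlgSt.IsAlgStack Scheme.fppfPrecoverage 𝒵) {J : Type u}
    (Z : J → Over S) (hZ : ∀ j, IsSeparated (Z j).hom) (p : ∀ j, FibCat.overCat (Z j) ⥤ᵇ 𝒵)
    (hp : ∀ j, AlgSt.RepByAlgSpWith (LocP @Smooth) (p j)) :
    ∃ (Z' : Over S) (p' : FibCat.overCat Z' ⥤ᵇ 𝒵), IsSeparated Z'.hom ∧ AlgSt.RepByAlgSpWith (LocP @Smooth) p' ∧
      ∀ (j : J) (T : Over S) (g : T ⟶ Z j), ∃ g' : T ⟶ Z',
        Nonempty (BasedFunctor.comp (AlgSt.overMap g') p' ≅ BasedFunctor.comp (AlgSt.overMap g) (p j)) := by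
  obtain ⟨p', hp'⟩ := K742.Cop.exists_functor (K742.Cop.zar_fppf S) p h𝒵.isStack
  refine ⟨sig Z, p', K651.Sigma.isSeparated_sigmaDesc _ _ hZ, ?_, ?_⟩
  · refine K742.Atlas0.repByAlgSpWith_sig (K751.Test.isPrestack_of_isStack h𝒵.isStack) K597.etLoc_smooth fun j => ?_
    obtain ⟨e⟩ := hp' j
    exact K735.Rep.repByAlgSpWith_of_iso _ e.symm (hp j)
  · intro j T g
    obtain ⟨e⟩ := hp' j
    refine ⟨g ≫ sigι Z j, ⟨?_⟩⟩
    have k1 : BasedFunctor.comp (AlgSt.overMap (g ≫ sigι Z j)) p' ≅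
      BasedFunctor.comp (AlgSt.overMap g) (BasedFunctor.comp (AlgSt.overMap (sigι Z j)) p') :=
        K734.Fib.wr (K742.Sq.overMapComp g (sigι Z j)) p'
    exact k1 ≪≫ K734.Fib.wl (AlgSt.overMap g) e

/-- S18326 from the statement of S18310. -/
theorem main {𝒵 : AlgSt.Cat S} (h𝒵 : AlgSt.IsAlgStack Scheme.fppfPrecoverage 𝒵)
    (R : Type u) [CommRing R] [HenselianLocalRing R] (str : Spec (CommRingCat.of R) ⟶ S)
    (H : ∀ (a : Ideal R), a ≠ ⊤ → ∀
      (x : FibCat.overCat (Over.mk (Spec.map (CommRingCat.ofHom (Ideal.Quotient.mk a)) ≫ str)) ⥤ᵇ 𝒵),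
      ∃ (Z : Over S) (_ : IsAffine Z.left) (p : FibCat.overCat Z ⥤ᵇ 𝒵)
        (g : Over.mk (Spec.map (CommRingCat.ofHom (Ideal.Quotient.mk a)) ≫ str) ⟶ Z),
        AlgSt.RepByAlgSpWith (LocP @Smooth) p ∧ Nonempty (BasedFunctor.comp (AlgSt.overMap g) p ≅ x)) :
    ∃ (Z : Over S) (p : FibCat.overCat Z ⥤ᵇ 𝒵), IsSeparated Z.hom ∧ AlgSt.RepByAlgSpWith (LocP @Smooth) p ∧
      ∀ (a : Ideal R) (x : FibCat.overCat (Over.mk (Spec.map (CommRingCat.ofHom (Ideal.Quotient.mk a)) ≫ str)) ⥤ᵇ 𝒵),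
        ∃ g : Over.mk (Spec.map (CommRingCat.ofHom (Ideal.Quotient.mk a)) ≫ str) ⟶ Z,
          Nonempty (BasedFunctor.comp (AlgSt.overMap g) p ≅ x) := by
  choose I F hF using fun a : Ideal R => K749.SmallCls.exists_small_of_isAlgStack (A := R ⧸ a)
    (t := Spec.map (CommRingCat.ofHom (Ideal.Quotient.mk a)) ≫ str) h𝒵
  let J : Type u := Σ a : {a : Ideal R // a ≠ ⊤}, I a.1
  choose Z hZ p g hp hg using fun j : J => H j.1.1 j.1.2 (F j.1.1 j.2)
  obtain ⟨Z', p', h1, h2, h3⟩ := exists_chart_of_family h𝒵 Z (fun j => by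
    have := hZ j
    have h : (Z j).left.IsSeparated := inferInstance
    infer_instance) p hp
  refine ⟨Z', p', h1, h2, fun a x => ?_⟩
  by_cases ha : a = ⊤
  · have hE : IsEmpty ↥(Over.mk (Spec.map (CommRingCat.ofHom (Ideal.Quotient.mk a)) ≫ str) : Over S).left := by
      have : Subsingleton (R ⧸ a) := Ideal.Quotient.subsingleton_iff.2 ha
      exact inferInstanceAs (IsEmpty (PrimeSpectrum (R ⧸ a)))
    let T : Over S := Over.mk (Spec.map (CommRingCat.ofHom (Ideal.Quotient.mk a)) ≫ str)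
    have hE' : IsEmpty ↥T.left := hE
    let g : T ⟶ Z' := Over.homMk (isInitialOfIsEmpty (X := T.left).to _) (isInitialOfIsEmpty.hom_ext _ _)
    refine ⟨g, ?_⟩
    obtain ⟨ψ, hψ, -⟩ := K742.Cop.existsUnique_empty (K742.Cop.zar_fppf S)
      (K751.Test.isPrestack_of_isStack h𝒵.isStack) hE'
      ((BasedFunctor.comp (AlgSt.overMap g) p').w_obj (idObj T)) (x.w_obj (idObj T)) (𝟙 T)
    exact ⟨yonIso h𝒵.isStack.1 _ _ ψ (vert_of_isHomLift hψ)⟩
  · obtain ⟨i, ⟨e⟩⟩ := hF a x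
    obtain ⟨g', ⟨e'⟩⟩ := h3 ⟨⟨a, ha⟩, i⟩ _ (g ⟨⟨a, ha⟩, i⟩)
    obtain ⟨e''⟩ := hg ⟨⟨a, ha⟩, i⟩
    exact ⟨g', ⟨e' ≪≫ e'' ≪≫ e⟩⟩

end K749.Hens
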