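import Groth.Agent.AlgSt.K735.Rep
import Groth.Agent.AlgSt.K738.SecRep2
import Groth.Agent.AlgSt.K738.RepDiag
/-!
# A 1-morphism `(Sch/V) ⟶ 𝒳` representable by schemes has a right adjoint

`RepAt v x`: a terminal object of the category of pairs `(B, v B ⟶ x)`; it exists as soon as the base change of `v` to `x`
is a scheme.
-/

set_option autoImplicit false
set_option backward.isDefEq.respectTransparency false
set_option backward.isDefEq.respectTransparency.types false

universe w' v' w v u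

open CategoryTheory CategoryTheory.Limits AlgebraicGeometry Opposite K735.Fib K735.Fp AlgSp

namespace K749.Hilb

variable {S : Scheme.{u}}

section SecRep

variable {𝒵 : BasedCategory.{v, w} (Over S)} {U : Over S} {q : 𝒵 ⥤ᵇ FibCat.overCat U} {F F' : Sp S}
  {π : F ⟶ (yon S).obj U}

/-- Transport of an elementwise representation along an isomorphism. -/
def secRepOfIso (R : K738.SecRep q F π) (i : F ≅ F') (π' : F' ⟶ (yon S).obj U) (h : i.hom ≫ π' = π) :
    K738.SecRep q F' π' where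
  sec z := i.hom.hom.app _ (R.sec z)
  map m := by rw [← NatTrans.naturality_apply, R.map]
  full {z z'} g hg := by
    refine R.full g ?_
    rw [← NatTrans.naturality_apply] at hg
    have h1 := congrArg (i.inv.hom.app _) hg
    have h2 : ∀ {T : (Over S)ᵒᵖ} (s : F.obj.obj T), i.inv.hom.app _ (i.hom.hom.app _ s) = s := fun {T} s => by
      have := congrArg (fun k => k.hom.app T s) i.hom_inv_id
      exact this
    rwa [h2, h2] at h1
  faithful := R.faithful
  surj {T} s := by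
    obtain ⟨z, hz, hs⟩ := R.surj (i.inv.hom.app _ s)
    refine ⟨z, hz, ?_⟩
    rw [← NatTrans.naturality_apply, hs]
    have := congrArg (fun k => k.hom.app (op T) s) i.inv_hom_id
    exact this
  proj z := by
    refine Eq.trans ?_ (R.proj z)
    exact congrArg (fun k => k.hom.app _ (R.sec z)) h

end SecRep

variable {𝒳 : BasedCategory.{v', w'} (Over S)} {V : Over S} (v : FibCat.overCat V ⥤ᵇ 𝒳)

/-- A terminal object of the category of pairs `(B, v B ⟶ x)`. -/
structure RepAt (x : 𝒳.obj) where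
  A : Over V
  a : v.obj A ⟶ x
  lift : ∀ (B : Over V) (b : v.obj B ⟶ x), ∃! k : B ⟶ A, v.map k ≫ a = b

/-- The structure morphism of a member. -/
def str₀ {x : 𝒳.obj} {A : Over V} (a : v.obj A ⟶ x) : A.left ⟶ 𝒳.p.obj x := eqToHom (v.w_obj A).symm ≫ 𝒳.p.map a

theorem str₀_comp {x : 𝒳.obj} {A B : Over V} (k : B ⟶ A) (a : v.obj A ⟶ x) :
    str₀ v (v.map k ≫ a) = k.left ≫ str₀ v a := by
  rw [str₀, str₀, Functor.map_comp, map_map]
  simp
  rfl

theorem str₀_comp' {x x' : 𝒳.obj} {A : Over V} (a : v.obj A ⟶ x) (f : x ⟶ x') :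
    str₀ v (a ≫ f) = str₀ v a ≫ 𝒳.p.map f := by
  rw [str₀, str₀, Functor.map_comp, Category.assoc]

theorem exists_repAt (h𝒳 : FibCat.IsFibGrpd 𝒳.p) {x : 𝒳.obj} {y : FibCat.overCat (𝒳.p.obj x) ⥤ᵇ 𝒳}
    (ex : y.obj (idObj _) ≅ x) (hex : Vert 𝒳.p ex.hom) {W : Over S} {w : W ⟶ 𝒳.p.obj x}
    (R : K738.SecRep (FibCat.fpFst y v) ((yon S).obj W) ((yon S).map w)) :
    ∃ (r : RepAt v x) (hA : r.A.left = W), str₀ v r.a = eqToHom hA ≫ w := by
  obtain ⟨z₀, h, hz₀⟩ := R.surj (T := W) ⟨𝟙 W⟩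
  have hz₀' : eqToHom h ≫ (R.sec z₀).down = 𝟙 W := congrArg ULift.down hz₀
  have hs₀ : (R.sec z₀).down = eqToHom h.symm := by
    rw [← cancel_epi (eqToHom h), hz₀', eqToHom_trans, eqToHom_refl]
  have hp₀ : (R.sec z₀).down ≫ w = z₀.obj.fst.hom := by
    have := congrArg ULift.down (R.proj z₀)
    exact this.trans (Category.id_comp _)
  let A : Over V := z₀.obj.snd
  let a : v.obj A ⟶ x := z₀.obj.iso.inv ≫ y.map (toId z₀.obj.fst) ≫ ex.hom
  have hAW : A.left = W := (fp_snd_eq z₀).trans h.symm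
  have ha : str₀ v a = eqToHom (fp_snd_eq z₀) ≫ z₀.obj.fst.hom := by
    change _ ≫ 𝒳.p.map (_ ≫ _ ≫ _) = _
    rw [Functor.map_comp, Functor.map_comp, (Vert.iso_inv (fp_vert z₀)).map_eq, map_map, hex.map_eq]
    simp
    rfl
  have hlift : ∀ (B : Over V) (b : v.obj B ⟶ x), ∃! k : B ⟶ A, v.map k ≫ a = b := by
    intro B b
    let fB : Over (𝒳.p.obj x) := Over.mk (str₀ v b)
    obtain ⟨χ, hχ1, hχ2⟩ := exists_hom h𝒳 b (y.map (toId fB) ≫ ex.hom)
      (eqToHom ((y.w_obj fB).trans (v.w_obj B).symm)) (by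
        rw [Functor.map_comp, map_map, hex.map_eq]
        change _ = (_ ≫ str₀ v b ≫ _) ≫ _
        simp [str₀])
    have hχv : Vert 𝒳.p χ := vert_of_map_eq _ hχ1
    have := hχv.isIso h𝒳
    let z : (FibCat.fp y v).obj := mkFp y v fB B (asIso χ) hχv
    let g : (FibCat.fp y v).p.obj z ⟶ (FibCat.fp y v).p.obj z₀ := (R.sec z).down ≫ eqToHom h
    obtain ⟨m, hm⟩ := R.full (z := z) (z' := z₀) g (by
      apply ULift.ext
      change g ≫ (R.sec z₀).down = _
      rw [hs₀]
      simp [g])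
    have hmk : v.map m.hom.snd ≫ a = b := by
      have h1 : y.map m.hom.fst ≫ z₀.obj.iso.hom = χ ≫ v.map m.hom.snd := fp_w m
      rw [← cancel_epi χ, ← Category.assoc, ← h1]
      change (_ ≫ _) ≫ z₀.obj.iso.inv ≫ y.map (toId z₀.obj.fst) ≫ ex.hom = _
      rw [Category.assoc, Iso.hom_inv_id_assoc, ← Category.assoc, ← y.map_comp, hχ2]
      congr 2
      exact Over.OverMorphism.ext (Over.w m.hom.fst)
    refine ⟨m.hom.snd, hmk, ?_⟩
    intro k' hk'
    have hk' : v.map k' ≫ a = b := hk'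
    have hk1 : str₀ v b = k'.left ≫ str₀ v a := by rw [← hk', str₀_comp]
    let c : fB ⟶ z₀.obj.fst := Over.homMk (k'.left ≫ eqToHom (fp_snd_eq z₀)) (by
      change (k'.left ≫ eqToHom (fp_snd_eq z₀)) ≫ z₀.obj.fst.hom = str₀ v b
      rw [hk1, ha, Category.assoc])
    have hw : y.map c ≫ z₀.obj.iso.hom = χ ≫ v.map k' := by
      apply hom_ext' h𝒳 a
      · rw [Functor.map_comp, Functor.map_comp, map_map, map_map, hχ1, (fp_vert z₀).map_eq]
        change (_ ≫ (k'.left ≫ eqToHom (fp_snd_eq z₀)) ≫ _) ≫ _ = _ ≫ _ ≫ k'.left ≫ _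
        simp
      · rw [Category.assoc, Category.assoc, hk', hχ2]
        change _ ≫ _ ≫ z₀.obj.iso.inv ≫ y.map (toId z₀.obj.fst) ≫ ex.hom = _
        rw [Iso.hom_inv_id_assoc, ← Category.assoc, ← y.map_comp]
        congr 2
        exact Over.OverMorphism.ext (Over.w c)
    let m' : z ⟶ z₀ := homFp c k' hw
    have h1 : (FibCat.fp y v).p.map m' ≫ (R.sec z₀).down = (R.sec z).down := congrArg ULift.down (R.map m')
    have h2 : (FibCat.fp y v).p.map m ≫ (R.sec z₀).down = (R.sec z).down := congrArg ULift.down (R.map m)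
    have h3 : m' = m := by
      apply R.faithful
      rw [hs₀] at h1 h2
      rw [← cancel_mono (eqToHom h.symm), h1, h2]
    exact congrArg (fun t => t.hom.snd) h3
  refine ⟨⟨A, a, hlift⟩, hAW, ?_⟩
  rw [ha, ← hp₀, hs₀]
  simp

end K749.Hilb
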