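import Groth.Agent.AlgSt.K749.HilbA
import Groth.Agent.AlgSt.K749.ClopenG
/-!
# The cartesian family of schemes of a 1-morphism `(Sch/V) ⟶ 𝒳` representable by schemes
-/

set_option autoImplicit false
set_option backward.isDefEq.respectTransparency false
set_option backward.isDefEq.respectTransparency.types false

universe w' v' w v u

open CategoryTheory CategoryTheory.Limits AlgebraicGeometry Opposite K735.Fib K735.Fp AlgSp

namespace K749.Hilb

variable {S : Scheme.{u}} {𝒳 : BasedCategory.{v', w'} (Over S)} {V : Over S} {v : FibCat.overCat V ⥤ᵇ 𝒳}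

noncomputable section

theorem isPullback_of_exists {C : Type*} [Category* C] {P X Y Z : C} {fst : P ⟶ X} {snd : P ⟶ Y} {f : X ⟶ Z} {g : Y ⟶ Z}
    (w : fst ≫ f = snd ≫ g) (H : ∀ (T : C) (a : T ⟶ X) (b : T ⟶ Y), a ≫ f = b ≫ g →
      ∃ l : T ⟶ P, l ≫ fst = a ∧ l ≫ snd = b ∧ ∀ m : T ⟶ P, m ≫ fst = a → m ≫ snd = b → m = l) :
    IsPullback fst snd f g := by
  refine IsPullback.of_isLimit' ⟨w⟩ (PullbackCone.isLimitAux' _ fun s => ?_)
  have h := H s.pt s.fst s.snd s.condition
  exact ⟨h.choose, h.choose_spec.1, h.choose_spec.2.1, fun {m} h1 h2 => h.choose_spec.2.2 m h1 h2⟩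

/-- The unique factorisation through the terminal object. -/
def RepAt.k {x : 𝒳.obj} (r : RepAt v x) {B : Over V} (b : v.obj B ⟶ x) : B ⟶ r.A := (r.lift B b).choose

theorem RepAt.k_spec {x : 𝒳.obj} (r : RepAt v x) {B : Over V} (b : v.obj B ⟶ x) : v.map (r.k b) ≫ r.a = b :=
  (r.lift B b).choose_spec.1

theorem RepAt.k_uniq {x : 𝒳.obj} (r : RepAt v x) {B : Over V} {b : v.obj B ⟶ x} (k : B ⟶ r.A)
    (h : v.map k ≫ r.a = b) : k = r.k b := (r.lift B b).choose_spec.2 k h

theorem RepAt.hom_ext {x : 𝒳.obj} (r : RepAt v x) {B : Over V} {k k' : B ⟶ r.A}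
    (h : v.map k ≫ r.a = v.map k' ≫ r.a) : k = k' := (r.k_uniq k h).trans (r.k_uniq k' rfl).symm

/-- The right adjoint of `v`. -/
def radj (r : ∀ x : 𝒳.obj, RepAt v x) : 𝒳.obj ⥤ Over V where
  obj x := (r x).A
  map {x x'} f := (r x').k ((r x).a ≫ f)
  map_id x := by
    symm
    apply RepAt.k_uniq
    rw [v.map_id, Category.id_comp, Category.comp_id]
  map_comp {x x' x''} f g := by
    symm
    apply RepAt.k_uniq
    rw [v.map_comp, Category.assoc, RepAt.k_spec, ← Category.assoc, RepAt.k_spec, Category.assoc]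

theorem radj_map (r : ∀ x : 𝒳.obj, RepAt v x) {x x' : 𝒳.obj} (f : x ⟶ x') :
    v.map ((radj r).map f) ≫ (r x').a = (r x).a ≫ f := RepAt.k_spec _ _

theorem isPullback_str₀ (h𝒳 : FibCat.IsFibGrpd 𝒳.p) (r : ∀ x : 𝒳.obj, RepAt v x) {x x' : 𝒳.obj} (f : x ⟶ x') :
    IsPullback ((radj r).map f).left (str₀ v (r x).a) (str₀ v (r x').a) (𝒳.p.map f) := by
  refine isPullback_of_exists ?_ ?_
  · have := congrArg (str₀ v) (radj_map r f)
    rwa [str₀_comp, str₀_comp'] at this
  · intro T s t hs
    let A' : Over V := (r x').A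
    let B : Over V := Over.mk (s ≫ A'.hom)
    let k' : B ⟶ A' := Over.homMk s rfl
    obtain ⟨b, hb1, hb2⟩ := exists_hom h𝒳 f (v.map k' ≫ (r x').a) (eqToHom (v.w_obj B) ≫ t) (by
      have h1 := str₀_comp v k' (r x').a
      rw [str₀] at h1
      rw [← cancel_epi (eqToHom (v.w_obj B).symm), h1, Category.assoc, eqToHom_trans_assoc, eqToHom_refl,
        Category.id_comp, ← hs]
      rfl)
    have hb1' : str₀ v b = t := by
      rw [str₀, hb1]
      exact eqToHom_trans_assoc _ _ _ |>.trans (Category.id_comp _)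
    have hk : (r x).k b ≫ (radj r).map f = k' := by
      apply (r x').hom_ext
      rw [v.map_comp, Category.assoc, radj_map, ← Category.assoc, RepAt.k_spec, hb2]
    refine ⟨((r x).k b).left, congrArg (fun t => t.left) hk, ?_, ?_⟩
    · change ((r x).k b).left ≫ str₀ v (r x).a = t
      rw [← str₀_comp, RepAt.k_spec, hb1']
    · intro m hm1 hm2
      let m' : B ⟶ (r x).A := Over.homMk m (by
        change m ≫ (r x).A.hom = s ≫ A'.hom
        rw [← hm1, Category.assoc]
        congr 1
        exact (Over.w ((radj r).map f)).symm)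
      have h2 : v.map m' ≫ (r x).a = b := by
        apply hom_ext' h𝒳 f
        · have h3 : str₀ v (v.map m' ≫ (r x).a) = str₀ v b := by
            rw [str₀_comp, hb1']
            exact hm2
          rw [str₀, str₀] at h3
          exact (cancel_epi _).1 h3
        · rw [Category.assoc, ← radj_map, ← Category.assoc, ← v.map_comp, hb2]
          congr 2
          exact Over.OverMorphism.ext hm1
      exact congrArg (fun t => t.left) ((r x).k_uniq m' h2)

/-- The cartesian family. -/
def fam (h𝒳 : FibCat.IsFibGrpd 𝒳.p) (r : ∀ x : 𝒳.obj, RepAt v x)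
    (h₁ : ∀ x, Flat (str₀ v (r x).a).left) (h₂ : ∀ x, LocallyOfFinitePresentation (str₀ v (r x).a).left)
    (h₃ : ∀ x, LocallyQuasiFinite (str₀ v (r x).a).left) (h₄ : ∀ x, IsSeparated (str₀ v (r x).a).left) :
    Clopen.Fam 𝒳.p where
  X := radj r ⋙ Over.forget V ⋙ Over.forget S
  π x := (str₀ v (r x).a).left
  sq f := (isPullback_str₀ h𝒳 r f).map (Over.forget S)
  flat := h₁
  lfp := h₂
  lqf := h₃
  sep := h₄

end

end K749.Hilb
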