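import Groth.Agent.AlgSt.K749.HilbC
import Groth.Agent.CurvSt.K899.OpenCrit
/-!
# The universal finite open piece over the stack of finite open pieces
-/

set_option autoImplicit false
set_option backward.isDefEq.respectTransparency false
set_option backward.isDefEq.respectTransparency.types false

universe w' v' w v u

open CategoryTheory CategoryTheory.Limits AlgebraicGeometry Opposite K735.Fib K735.Fp AlgSp K899.OpenCrit

namespace K749.Hilb

noncomputable section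

theorem existsUnique_op_lift {S : Scheme.{u}} {U : Over S} {W : U.left.Opens} {T : Over S} (k : T ⟶ U)
    (h : k.left ⁻¹ᵁ W = ⊤) : ∃! s : T ⟶ opOver U W, s ≫ opIncl U W = k := by
  have h' : Set.range k.left ⊆ Set.range W.ι := by
    rw [Scheme.Opens.range_ι]
    rintro _ ⟨t, rfl⟩
    have : t ∈ k.left ⁻¹ᵁ W := by rw [h]; trivial
    exact this
  let m : T.left ⟶ W := IsOpenImmersion.lift W.ι k.left h'
  have hm : m ≫ W.ι = k.left := IsOpenImmersion.lift_fac _ _ _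
  refine ⟨Over.homMk m ?_, Over.OverMorphism.ext hm, fun s hs => ?_⟩
  · change m ≫ W.ι ≫ U.hom = _
    rw [← Category.assoc, hm, Over.w]
  · apply Over.OverMorphism.ext
    have := congrArg (fun t => t.left) hs
    exact (cancel_mono W.ι).1 (this.trans hm.symm)

variable {S : Scheme.{u}} {𝒳 : AlgSt.Cat S} {V : Over S}

/-- The data of a 1-morphism `(Sch/V) ⟶ 𝒳` representable by separated flat lfp lqf schemes. -/
structure Dat (v : FibCat.overCat V ⥤ᵇ 𝒳) where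
  h𝒳 : FibCat.IsFibGrpd 𝒳.p
  r : ∀ x : 𝒳.obj, RepAt v x
  h₁ : ∀ x, Flat (str₀ v (r x).a).left
  h₂ : ∀ x, LocallyOfFinitePresentation (str₀ v (r x).a).left
  h₃ : ∀ x, LocallyQuasiFinite (str₀ v (r x).a).left
  h₄ : ∀ x, IsSeparated (str₀ v (r x).a).left

namespace Dat

variable {v : FibCat.overCat V ⥤ᵇ 𝒳} (d : Dat v)

/-- The family. -/
def X : Clopen.Fam 𝒳.p := fam d.h𝒳 d.r d.h₁ d.h₂ d.h₃ d.h₄

/-- The product `V ×_𝒳 𝒲`. -/
abbrev P : AlgSt.Cat S := FibCat.fp v d.X.Wf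

/-- The tautological section. -/
def ks (z : d.P.obj) : z.obj.fst ⟶ (d.r z.obj.snd.x).A := (d.r _).k z.obj.iso.hom

theorem ks_spec (z : d.P.obj) : v.map (d.ks z) ≫ (d.r z.obj.snd.x).a = z.obj.iso.hom := (d.r _).k_spec _

theorem ks_nat {z z' : d.P.obj} (m : z ⟶ z') : m.hom.fst ≫ d.ks z' = d.ks z ≫ (radj d.r).map m.hom.snd.hom := by
  apply (d.r z'.obj.snd.x).hom_ext
  have h1 : v.map m.hom.fst ≫ z'.obj.iso.hom = z.obj.iso.hom ≫ m.hom.snd.hom := fp_w m
  rw [v.map_comp, v.map_comp, Category.assoc, Category.assoc, radj_map, ks_spec, h1, ← Category.assoc, ks_spec]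

/-- The locus where the tautological section lies in the finite open piece. -/
def O (z : d.P.obj) : z.obj.fst.left.left.Opens := (d.ks z).left.left ⁻¹ᵁ z.obj.snd.Z.1

theorem O_nat {z z' : d.P.obj} (m : z ⟶ z') : d.O z = m.hom.fst.left.left ⁻¹ᵁ d.O z' := by
  have h1 := congrArg Subtype.val m.hom.snd.res
  have h2 := congrArg (fun t => t.left.left) (d.ks_nat m)
  change (d.ks z).left.left ⁻¹ᵁ z.obj.snd.Z.1 = m.hom.fst.left.left ⁻¹ᵁ (d.ks z').left.left ⁻¹ᵁ z'.obj.snd.Z.1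
  rw [← h1]
  change ((d.ks z).left.left ≫ ((radj d.r).map m.hom.snd.hom).left.left) ⁻¹ᵁ z'.obj.snd.Z.1 =
    (m.hom.fst.left.left ≫ (d.ks z').left.left) ⁻¹ᵁ z'.obj.snd.Z.1
  exact congrArg (fun t => t ⁻¹ᵁ z'.obj.snd.Z.1) h2.symm

/-- The objects whose tautological section lies in the finite open piece. -/
def Q (z : d.P.obj) : Prop := d.O z = ⊤

theorem hasOpenLocus_Q : HasOpenLocus d.Q := by
  intro z
  refine ⟨d.O z, fun y φ => ?_⟩
  rw [Q, d.O_nat φ]
  constructor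
  · intro h
    rintro _ ⟨t, rfl⟩
    have : t ∈ φ.hom.fst.left.left ⁻¹ᵁ d.O z := by rw [h]; trivial
    exact this
  · intro h
    ext t
    exact ⟨fun _ => trivial, fun _ => h ⟨t, rfl⟩⟩

/-- The universal finite open piece. -/
abbrev Zc : AlgSt.Cat S := AlgSt.fullSub d.P d.Q

/-- Its inclusion. -/
abbrev incl : d.Zc ⥤ᵇ d.P := AlgSt.subIncl d.P d.Q

theorem isOpenImm_incl : AlgSt.IsOpenImm d.incl := isOpenImm_subIncl d.hasOpenLocus_Q

section base

variable {U : Over S} (t : FibCat.overCat U ⥤ᵇ d.X.W)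

/-- The value at the identity. -/
abbrev τ : d.X.WObj := t.obj (idObj U)

/-- The scheme of the piece. -/
abbrev Ot : Over S := opOver (d.r (d.τ t).x).A.left (d.τ t).Z.1

/-- Its inclusion. -/
abbrev ιt : d.Ot t ⟶ (d.r (d.τ t).x).A.left := opIncl (d.r (d.τ t).x).A.left (d.τ t).Z.1

theorem h0 : 𝒳.p.obj (d.τ t).x = U := t.w_obj (idObj U)

/-- Its map to the base. -/
def ωt : d.Ot t ⟶ U := d.ιt t ≫ str₀ v (d.r (d.τ t).x).a ≫ eqToHom (d.h0 t)

theorem ιt_mono {T : Over S} {a b : T ⟶ d.Ot t} (h : a ≫ d.ιt t = b ≫ d.ιt t) : a = b := by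
  apply Over.OverMorphism.ext
  have := congrArg (fun t => t.left) h
  exact (cancel_mono (d.τ t).Z.1.ι).1 this

abbrev Pt : AlgSt.Cat S := FibCat.fp t (BasedFunctor.comp d.incl (FibCat.fpSnd v d.X.Wf))

variable (q : (d.Pt t).obj)

/-- The morphism in `𝒲` from the second component to the value at the identity. -/
def ρ : q.obj.snd.obj.obj.snd ⟶ d.τ t := q.obj.iso.inv ≫ t.map (toId q.obj.fst)

def β : v.obj q.obj.snd.obj.obj.fst ⟶ (d.τ t).x := q.obj.snd.obj.obj.iso.hom ≫ (d.ρ t q).hom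

def kq : q.obj.snd.obj.obj.fst ⟶ (d.r (d.τ t).x).A := (d.r (d.τ t).x).k (d.β t q)

theorem kq_spec : v.map (d.kq t q) ≫ (d.r (d.τ t).x).a = d.β t q := (d.r (d.τ t).x).k_spec _

theorem kq_eq : d.kq t q = d.ks q.obj.snd.obj ≫ (radj d.r).map (d.ρ t q).hom := by
  apply (d.r (d.τ t).x).hom_ext
  rw [kq_spec, v.map_comp, Category.assoc, radj_map, ← Category.assoc, ks_spec]
  rfl

theorem kq_preimage : (d.kq t q).left.left ⁻¹ᵁ (d.τ t).Z.1 = ⊤ := by
  have h1 := congrArg Subtype.val (d.ρ t q).res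
  have h2 := congrArg (fun t => t.left.left) (d.kq_eq t q)
  have h3 : (d.ks q.obj.snd.obj).left.left ⁻¹ᵁ q.obj.snd.obj.obj.snd.Z.1 = ⊤ := q.obj.snd.property
  refine (congrArg (fun m => m ⁻¹ᵁ (d.τ t).Z.1) h2).trans (Eq.trans ?_ h3)
  exact congrArg (fun m => (d.ks q.obj.snd.obj).left.left ⁻¹ᵁ m) h1

theorem hBA : q.obj.fst.left = q.obj.snd.obj.obj.fst.left := (fp_snd_eq q).symm

/-- The section of the scheme of the piece attached to an object of the fibre product. -/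
def secQ : q.obj.fst.left ⟶ d.Ot t :=
  eqToHom (d.hBA t q) ≫ (existsUnique_op_lift (d.kq t q).left (d.kq_preimage t q)).choose

theorem secQ_spec : d.secQ t q ≫ d.ιt t = eqToHom (d.hBA t q) ≫ (d.kq t q).left := by
  rw [secQ, Category.assoc]
  congr 1
  exact (existsUnique_op_lift (d.kq t q).left (d.kq_preimage t q)).choose_spec.1

theorem hx : 𝒳.p.obj q.obj.snd.obj.obj.snd.x = q.obj.fst.left := (fp_vert q).eq.trans (t.w_obj q.obj.fst)

theorem map_ρ : 𝒳.p.map (d.ρ t q).hom = eqToHom (d.hx t q) ≫ q.obj.fst.hom ≫ eqToHom (d.h0 t).symm := by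
  have h1 : d.X.W.p.map (q.obj.iso.inv ≫ t.map (toId q.obj.fst)) =
      eqToHom (d.hx t q) ≫ (toId q.obj.fst).left ≫ eqToHom (d.h0 t).symm := by
    rw [Functor.map_comp, map_map, (Vert.iso_inv (fp_vert q)).map_eq, eqToHom_trans_assoc]
    rfl
  exact h1

theorem map_isoζ (z : d.P.obj) : 𝒳.p.map z.obj.iso.hom = eqToHom ((v.w_obj z.obj.fst).trans (fp_snd_eq z).symm) := by
  rw [(fp_vert z).map_eq]

theorem str₀_β : str₀ v (d.β t q) = eqToHom (d.hBA t q).symm ≫ q.obj.fst.hom ≫ eqToHom (d.h0 t).symm := by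
  rw [str₀, β, Functor.map_comp, map_isoζ, map_ρ]
  simp only [eqToHom_trans_assoc]

theorem secQ_ωt : d.secQ t q ≫ d.ωt t = q.obj.fst.hom := by
  have h1 : (d.kq t q).left ≫ str₀ v (d.r (d.τ t).x).a = str₀ v (d.β t q) := by
    rw [← str₀_comp, kq_spec]
  rw [ωt, ← Category.assoc, secQ_spec, Category.assoc, ← Category.assoc _ (str₀ _ _), h1, str₀_β]
  simp only [eqToHom_trans_assoc, Category.assoc, eqToHom_trans, eqToHom_refl, Category.id_comp, Category.comp_id]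

theorem secQ_map {q q' : (d.Pt t).obj} (m : q ⟶ q') : m.hom.fst.left ≫ d.secQ t q' = d.secQ t q := by
  apply d.ιt_mono t
  rw [Category.assoc, secQ_spec, secQ_spec]
  have e1 : t.map m.hom.fst ≫ q'.obj.iso.hom = q.obj.iso.hom ≫ m.hom.snd.hom.hom.snd := fp_w m
  have e2 : m.hom.snd.hom.hom.snd ≫ d.ρ t q' = d.ρ t q := by
    rw [ρ, ρ, ← cancel_epi q.obj.iso.hom, Iso.hom_inv_id_assoc, ← Category.assoc, ← e1, Category.assoc,
      Iso.hom_inv_id_assoc, ← t.map_comp]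
    congr 1
    exact Over.OverMorphism.ext (Over.w m.hom.fst)
  have e3 : v.map m.hom.snd.hom.hom.fst ≫ q'.obj.snd.obj.obj.iso.hom =
      q.obj.snd.obj.obj.iso.hom ≫ m.hom.snd.hom.hom.snd.hom := fp_w m.hom.snd.hom
  have e4 : m.hom.snd.hom.hom.fst ≫ d.kq t q' = d.kq t q := by
    apply (d.r (d.τ t).x).k_uniq
    rw [v.map_comp, Category.assoc, kq_spec, β, β, ← Category.assoc, e3, Category.assoc]
    congr 1
    exact congrArg (fun k => k.hom) e2
  have e5 := congrArg (fun k => k.left) e4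
  have e6 : m.hom.snd.hom.hom.fst.left = eqToHom (d.hBA t q).symm ≫ m.hom.fst.left ≫ eqToHom (d.hBA t q') :=
    fp_map_snd m
  change m.hom.snd.hom.hom.fst.left ≫ (d.kq t q').left = (d.kq t q).left at e5
  rw [← e5, e6]
  simp

theorem secQ_full {q q' : (d.Pt t).obj} (g : q.obj.fst.left ⟶ q'.obj.fst.left)
    (hg : g ≫ d.secQ t q' = d.secQ t q) : ∃ m : q ⟶ q', m.hom.fst.left = g := by
  let c : q.obj.fst ⟶ q'.obj.fst := Over.homMk g (by
    rw [← d.secQ_ωt t q', ← d.secQ_ωt t q, ← hg, Category.assoc])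
  have e1 : (d.kq t q).left = eqToHom (d.hBA t q).symm ≫ g ≫ eqToHom (d.hBA t q') ≫ (d.kq t q').left := by
    have h1 := d.secQ_spec t q
    rw [← hg, Category.assoc, secQ_spec] at h1
    rw [h1]
    simp
  let a : q.obj.snd.obj.obj.fst ⟶ q'.obj.snd.obj.obj.fst :=
    Over.homMk (eqToHom (d.hBA t q).symm ≫ g ≫ eqToHom (d.hBA t q')) (by
      have h2 := Over.w (d.kq t q)
      have h3 := Over.w (d.kq t q')
      change (d.kq t q).left ≫ (d.r (d.τ t).x).A.hom = _ at h2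
      change (d.kq t q').left ≫ (d.r (d.τ t).x).A.hom = _ at h3
      rw [← h2, ← h3, e1]
      simp only [Category.assoc])
  have e2 : a ≫ d.kq t q' = d.kq t q := by
    apply Over.OverMorphism.ext
    change (eqToHom (d.hBA t q).symm ≫ g ≫ eqToHom (d.hBA t q')) ≫ (d.kq t q').left = _
    rw [e1]
    simp only [Category.assoc]
  let b : q.obj.snd.obj.obj.snd ⟶ q'.obj.snd.obj.obj.snd := q.obj.iso.inv ≫ t.map c ≫ q'.obj.iso.hom
  have e3 : b ≫ d.ρ t q' = d.ρ t q := by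
    change (q.obj.iso.inv ≫ t.map c ≫ q'.obj.iso.hom) ≫ q'.obj.iso.inv ≫ t.map (toId q'.obj.fst) = _
    rw [Category.assoc, Category.assoc, Iso.hom_inv_id_assoc, ← t.map_comp]
    congr 2
    exact Over.OverMorphism.ext (Over.w c)
  have e3' : b.hom ≫ (d.ρ t q').hom = (d.ρ t q).hom := congrArg (fun k => k.hom) e3
  have hw : v.map a ≫ q'.obj.snd.obj.obj.iso.hom = q.obj.snd.obj.obj.iso.hom ≫ b.hom := by
    apply hom_ext' d.h𝒳 (d.ρ t q').hom
    · have hb : 𝒳.p.map b.hom = eqToHom (d.hx t q) ≫ g ≫ eqToHom (d.hx t q').symm := by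
        have : d.X.W.p.map (q.obj.iso.inv ≫ t.map c ≫ q'.obj.iso.hom) =
            eqToHom (d.hx t q) ≫ c.left ≫ eqToHom (d.hx t q').symm := by
          rw [Functor.map_comp, Functor.map_comp, map_map, (Vert.iso_inv (fp_vert q)).map_eq, (fp_vert q').map_eq]
          simp only [Category.assoc, eqToHom_trans_assoc, eqToHom_trans]
          rfl
        exact this
      rw [Functor.map_comp, Functor.map_comp, map_map, map_isoζ, map_isoζ, hb]
      change (_ ≫ (eqToHom (d.hBA t q).symm ≫ g ≫ eqToHom (d.hBA t q')) ≫ _) ≫ _ = _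
      simp only [Category.assoc, eqToHom_trans_assoc, eqToHom_trans]
    · have h4 : v.map a ≫ d.β t q' = d.β t q := by
        rw [← d.kq_spec t q', ← Category.assoc, ← v.map_comp, e2, kq_spec]
      rw [Category.assoc, Category.assoc, e3']
      exact h4
  let m₁ : q.obj.snd.obj ⟶ q'.obj.snd.obj := homFp a b hw
  let m₂ : q.obj.snd ⟶ q'.obj.snd := ObjectProperty.homMk m₁
  refine ⟨homFp c m₂ ?_, rfl⟩
  change t.map c ≫ q'.obj.iso.hom = q.obj.iso.hom ≫ q.obj.iso.inv ≫ t.map c ≫ q'.obj.iso.hom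
  rw [Iso.hom_inv_id_assoc]

theorem secQ_faithful {q q' : (d.Pt t).obj} (m m' : q ⟶ q') (h : m.hom.fst.left = m'.hom.fst.left) : m = m' := by
  have h1 : m.hom.fst = m'.hom.fst := Over.OverMorphism.ext h
  refine fp_hom_ext h1 (ObjectProperty.hom_ext _ (fp_hom_ext ?_ ?_))
  · apply Over.OverMorphism.ext
    have e : m.hom.snd.hom.hom.fst.left = eqToHom (d.hBA t q).symm ≫ m.hom.fst.left ≫ eqToHom (d.hBA t q') :=
      fp_map_snd m
    have e' : m'.hom.snd.hom.hom.fst.left = eqToHom (d.hBA t q).symm ≫ m'.hom.fst.left ≫ eqToHom (d.hBA t q') :=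
      fp_map_snd m'
    exact e.trans (Eq.trans (by rw [h]) e'.symm)
  · have e1 : t.map m.hom.fst ≫ q'.obj.iso.hom = q.obj.iso.hom ≫ m.hom.snd.hom.hom.snd := fp_w m
    have e2 : t.map m'.hom.fst ≫ q'.obj.iso.hom = q.obj.iso.hom ≫ m'.hom.snd.hom.hom.snd := fp_w m'
    exact (cancel_epi q.obj.iso.hom).1 (e1.symm.trans (Eq.trans (by rw [h1]) e2))

theorem secQ_surj {T : Over S} (s : T ⟶ d.Ot t) : ∃ (q : (d.Pt t).obj) (h : T = q.obj.fst.left),
    eqToHom h ≫ d.secQ t q = s := by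
  let sA : T ⟶ (d.r (d.τ t).x).A.left := s ≫ d.ιt t
  let A : Over V := Over.mk (sA ≫ (d.r (d.τ t).x).A.hom)
  let a : A ⟶ (d.r (d.τ t).x).A := Over.homMk sA rfl
  let B : Over U := Over.mk (s ≫ d.ωt t)
  let μ : t.obj B ⟶ d.τ t := t.map (toId B)
  have hμ : 𝒳.p.map μ.hom = eqToHom (t.w_obj B) ≫ (s ≫ d.ωt t) ≫ eqToHom (d.h0 t).symm := map_map t (toId B)
  obtain ⟨χ, hχ1, hχ2⟩ := exists_hom d.h𝒳 μ.hom (v.map a ≫ (d.r (d.τ t).x).a)
    (eqToHom ((v.w_obj A).trans (t.w_obj B).symm)) (by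
      have h1 : str₀ v (v.map a ≫ (d.r (d.τ t).x).a) = sA ≫ str₀ v (d.r (d.τ t).x).a := str₀_comp v a _
      rw [str₀] at h1
      rw [← cancel_epi (eqToHom (v.w_obj A).symm), h1, hμ, ωt]
      simp [sA])
  have hχv : Vert 𝒳.p χ := vert_of_map_eq _ hχ1
  have := hχv.isIso d.h𝒳
  let ζ : d.P.obj := mkFp v d.X.Wf A (t.obj B) (asIso χ) hχv
  have hk : d.ks ζ ≫ (radj d.r).map μ.hom = a := by
    apply (d.r (d.τ t).x).hom_ext
    rw [v.map_comp, Category.assoc, radj_map, ← Category.assoc, ks_spec]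
    exact hχ2
  have hζ : d.Q ζ := by
    have h1 := congrArg Subtype.val μ.res
    change (d.ks ζ).left.left ⁻¹ᵁ (t.obj B).Z.1 = ⊤
    refine (congrArg (fun m => (d.ks ζ).left.left ⁻¹ᵁ m) h1).symm.trans ?_
    change ((d.ks ζ).left.left ≫ ((radj d.r).map μ.hom).left.left) ⁻¹ᵁ (d.τ t).Z.1 = ⊤
    have h2 : (d.ks ζ).left.left ≫ ((radj d.r).map μ.hom).left.left = s.left ≫ (d.τ t).Z.1.ι :=
      congrArg (fun m => m.left.left) hk
    rw [h2, Scheme.Hom.comp_preimage, Scheme.Opens.ι_preimage_self, Scheme.Hom.preimage_top]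
  let q : (d.Pt t).obj := mkFp t (BasedFunctor.comp d.incl (FibCat.fpSnd v d.X.Wf)) B ⟨ζ, hζ⟩ (Iso.refl (t.obj B))
    (vert_id _)
  refine ⟨q, rfl, ?_⟩
  apply d.ιt_mono t
  rw [Category.assoc, secQ_spec]
  have hkq : d.kq t q = a := by
    symm
    apply (d.r (d.τ t).x).k_uniq
    change _ = χ ≫ (𝟙 (t.obj B) ≫ μ).hom
    rw [Category.id_comp, hχ2]
  rw [hkq]
  change eqToHom _ ≫ eqToHom _ ≫ sA = sA
  simp

theorem secRep_incl : Nonempty (K738.SecRep (FibCat.fpFst t (BasedFunctor.comp d.incl (FibCat.fpSnd v d.X.Wf)))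
    ((yon S).obj (d.Ot t)) ((yon S).map (d.ωt t))) := by
  refine ⟨⟨fun q => ⟨d.secQ t q⟩, ?_, ?_, ?_, ?_, ?_⟩⟩
  · intro q q' m
    exact congrArg ULift.up (d.secQ_map t m)
  · intro q q' g hg
    obtain ⟨m, hm⟩ := d.secQ_full t g (congrArg ULift.down hg)
    exact ⟨m, hm⟩
  · intro q q' m m' h
    exact d.secQ_faithful t m m' h
  · rintro T ⟨s⟩
    obtain ⟨q, h, hq⟩ := d.secQ_surj t s
    exact ⟨q, h, congrArg ULift.up hq⟩
  · intro q
    apply ULift.ext
    change d.secQ t q ≫ d.ωt t = 𝟙 _ ≫ q.obj.fst.hom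
    rw [secQ_ωt, Category.id_comp]

end base

end Dat

end

end K749.Hilb
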