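import Groth.Agent.AlgSt.K749.HilbD
import Groth.Agent.AlgSt.K739.ChartDiag
import Groth.Agent.AlgSt.K740.SpIso
import Groth.Agent.AlgSt.K744.TorsProp
import Groth.Agent.AlgSp.K610.ZarGlue
import Groth.Agent.S10259
import Groth.Agent.AlgSt.K738.YonProps
import Groth.Agent.S10535
import Groth.Agent.S10536
/-!
# `(Sch/V) ⟶ 𝒳` is representable by separated schemes: construction of `Dat v`
-/

set_option autoImplicit false
set_option backward.isDefEq.respectTransparency false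
set_option backward.isDefEq.respectTransparency.types false

universe w' v' w v u

open CategoryTheory CategoryTheory.Limits AlgebraicGeometry Opposite K735.Fib K735.Fp AlgSp K899.OpenCrit

namespace K749.Hilb

noncomputable section

variable {S : Scheme.{u}}

/-- The fibre product of two slices over the base category. -/
theorem secRep_prod {U V : Over S} (y : FibCat.overCat U ⥤ᵇ FibCat.selfOver (Over S))
    (g : FibCat.overCat V ⥤ᵇ FibCat.selfOver (Over S)) {W : Over S} (a : W ⟶ U) (b : W ⟶ V)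
    (H : ∀ (T : Over S) (s : T ⟶ U) (t : T ⟶ V), ∃ l : T ⟶ W, l ≫ a = s ∧ l ≫ b = t)
    (H' : ∀ (T : Over S) (l l' : T ⟶ W), l ≫ a = l' ≫ a → l ≫ b = l' ≫ b → l = l') :
    Nonempty (K738.SecRep (FibCat.fpFst y g) ((yon S).obj W) ((yon S).map a)) := by
  have e0 : ∀ z : (FibCat.fp y g).obj, z.obj.fst.left = z.obj.snd.left := fun z => (fp_snd_eq z).symm
  have e1 : ∀ {z z' : (FibCat.fp y g).obj} (m : z ⟶ z'),
      m.hom.snd.left = eqToHom (e0 z).symm ≫ m.hom.fst.left ≫ eqToHom (e0 z') := fun m => fp_map_snd m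
  choose l hl₁ hl₂ using fun z : (FibCat.fp y g).obj => H z.obj.fst.left z.obj.fst.hom
    (eqToHom (e0 z) ≫ z.obj.snd.hom)
  refine ⟨⟨fun z => ⟨l z⟩, ?_, ?_, ?_, ?_, ?_⟩⟩
  · intro z z' m
    apply ULift.ext
    change m.hom.fst.left ≫ l z' = l z
    apply H'
    · rw [Category.assoc, hl₁, hl₁]
      exact Over.w m.hom.fst
    · rw [Category.assoc, hl₂, hl₂, ← Over.w m.hom.snd]
      change _ = _ ≫ m.hom.snd.left ≫ z'.obj.snd.hom
      rw [e1]
      simp
  · intro z z' k hk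
    have hk' : k ≫ l z' = l z := congrArg ULift.down hk
    have hk1 : k ≫ z'.obj.fst.hom = z.obj.fst.hom := by
      rw [← hl₁, ← Category.assoc]
      exact (congrArg (fun t => t ≫ a) hk').trans (hl₁ z)
    have hk2 : (eqToHom (e0 z).symm ≫ k ≫ eqToHom (e0 z')) ≫ z'.obj.snd.hom = z.obj.snd.hom := by
      have h1 : k ≫ l z' ≫ b = l z ≫ b := by rw [← Category.assoc, hk']
      rw [hl₂, hl₂] at h1
      rw [Category.assoc, Category.assoc]
      exact (congrArg (fun t => eqToHom (e0 z).symm ≫ t) h1).trans (by simp)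
    let c : z.obj.fst ⟶ z'.obj.fst := Over.homMk k hk1
    let d : z.obj.snd ⟶ z'.obj.snd := Over.homMk (eqToHom (e0 z).symm ≫ k ≫ eqToHom (e0 z')) hk2
    have h3 : y.map c = eqToHom (y.w_obj z.obj.fst) ≫ k ≫ eqToHom (y.w_obj z'.obj.fst).symm := map_map y c
    have h4 : g.map d = eqToHom (g.w_obj z.obj.snd) ≫ (eqToHom (e0 z).symm ≫ k ≫ eqToHom (e0 z')) ≫
      eqToHom (g.w_obj z'.obj.snd).symm := map_map g d
    have h5 : ∀ z : (FibCat.fp y g).obj, ∃ h, z.obj.iso.hom = eqToHom h := fun z => ⟨(fp_vert z).eq.symm, (fp_vert z).map_eq⟩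
    obtain ⟨i1, j1⟩ := h5 z
    obtain ⟨i2, j2⟩ := h5 z'
    refine ⟨homFp c d ?_, rfl⟩
    rw [j1, j2, h3, h4]
    simp only [Category.assoc, eqToHom_trans, eqToHom_trans_assoc]
  · intro z z' m m' h
    have h1 : m.hom.fst = m'.hom.fst := Over.OverMorphism.ext h
    refine fp_hom_ext h1 (Over.OverMorphism.ext ?_)
    rw [e1, e1, h1]
  · rintro T ⟨s⟩
    let A : Over U := Over.mk (s ≫ a)
    let B : Over V := Over.mk (s ≫ b)
    let i : y.obj A ≅ g.obj B := eqToIso ((y.w_obj A).trans (g.w_obj B).symm)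
    have hi : Vert (FibCat.selfOver (Over S)).p i.hom := vert_of_map_eq ((y.w_obj A).trans (g.w_obj B).symm) rfl
    let z : (FibCat.fp y g).obj := mkFp y g A B i hi
    refine ⟨z, rfl, ?_⟩
    apply ULift.ext
    change 𝟙 _ ≫ l z = s
    rw [Category.id_comp]
    apply H'
    · rw [hl₁]
      rfl
    · rw [hl₂]
      exact Category.id_comp _
  · intro z
    apply ULift.ext
    change l z ≫ a = 𝟙 _ ≫ z.obj.fst.hom
    rw [hl₁, Category.id_comp]

/-- The structure functor of a separated scheme is separated. -/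
theorem repByAlgSpWith_sep_of_isSeparated {V : Over S} [IsSeparated V.hom]
    (g : FibCat.overCat V ⥤ᵇ FibCat.selfOver (Over S)) : AlgSt.RepByAlgSpWith IsSeparatedMor g := by
  refine K738.repByAlgSpWith_of_secRep fun U y => ?_
  let W : Over S := Over.mk (pullback.fst U.hom V.hom ≫ U.hom)
  let a : W ⟶ U := Over.homMk (pullback.fst U.hom V.hom) rfl
  let b : W ⟶ V := Over.homMk (pullback.snd U.hom V.hom) pullback.condition.symm
  refine ⟨⟨(yon S).obj W, IsAlgSpace.yon_obj _⟩, (yon S).map a, ?_, secRep_prod y g a b ?_ ?_⟩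
  · exact (isSeparatedMor_yon_map_iff a).2 (inferInstanceAs (IsSeparated (pullback.fst U.hom V.hom)))
  · intro T s t
    refine ⟨Over.homMk (pullback.lift s.left t.left ((Over.w s).trans (Over.w t).symm)) ?_, ?_, ?_⟩
    · change pullback.lift _ _ _ ≫ pullback.fst U.hom V.hom ≫ U.hom = _
      rw [pullback.lift_fst_assoc]
      exact Over.w s
    · exact Over.OverMorphism.ext (pullback.lift_fst _ _ _)
    · exact Over.OverMorphism.ext (pullback.lift_snd _ _ _)
  · intro T l l' h1 h2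
    apply Over.OverMorphism.ext
    apply pullback.hom_ext
    · exact congrArg CommaMorphism.left h1
    · exact congrArg CommaMorphism.left h2

variable {𝒳 : AlgSt.Cat S} {V : Over S}

/-- A 1-morphism from a separated scheme to a stack with separated diagonal is separated. -/
theorem repByAlgSpWith_sep (h𝒳 : FibCat.IsFibGrpd 𝒳.p)
    (hΔ : AlgSt.RepByAlgSpWith IsSeparatedMor (FibCat.diag (FibCat.toSelf 𝒳))) [IsSeparated V.hom]
    (v : FibCat.overCat V ⥤ᵇ 𝒳) : AlgSt.RepByAlgSpWith IsSeparatedMor v :=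
  K739.ChartDiag.repByAlgSpWith_of_comp (𝒜 := FibCat.overCat V) (ℬ := 𝒳) (𝒞 := FibCat.selfOver (Over S))
    (P := IsSeparatedMor) (Q := IsSeparatedMor) (R := IsSeparatedMor) K739.Props.bc_sep
    (K739.Props.isLocalOnBase_fppf_of_fpqc (Groth.Agent.S10535.result S)) K739.Props.comp_sep (K735.Fp.isFibGrpd_overCat V) h𝒳 K735.Fp.isFibGrpd_selfOver v
    (FibCat.toSelf 𝒳) (repByAlgSpWith_sep_of_isSeparated _) hΔ

end

end K749.Hilb

namespace K749.Hilb

noncomputable section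

variable {S : Scheme.{u}}

/-- S10259 in terms of `yon`. -/
theorem exists_iso_yon {F : Space S} {U : Over S} {π : F.obj ⟶ (yon S).obj U}
    (h1 : LocP (@LocallyQuasiFinite ⊓ @LocallyOfFiniteType) π) (h2 : IsSeparatedMor π) :
    ∃ (W : Over S) (i : F.obj ≅ (yon S).obj W) (w : W ⟶ U), i.hom ≫ (yon S).map w = π := by
  have h := Groth.Agent.S10259.result U F (ObjectProperty.homMk π) h1 h2
  obtain ⟨W, ⟨i⟩⟩ := K610.ZarGlue.isRepresentable_iff.1 h
  obtain ⟨w, hw⟩ := (yon S).map_surjective (i.hom ≫ π)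
  refine ⟨W, i.symm, w, ?_⟩
  rw [hw]
  exact Iso.inv_hom_id_assoc i π

theorem locP_yon_etLoc {P : MorphismProperty Scheme.{u}} [P.IsStableUnderBaseChange] (hP : K597.EtLoc P) {U V : Over S}
    (g : U ⟶ V) : LocP P ((yon S).map g) ↔ P g.left := by
  rw [K597.locP_iff_repWith hP (IsAlgSpace.yon_obj V).hasAtlas (representable_yon_map g), repWith_yon_map_iff]

theorem surj_of_yon {U V : Over S} {g : U ⟶ V} (h : IsSurjectiveMor ((yon S).map g)) : Surjective g.left :=
  (repWith_yon_map_iff _ g).1 ((K609.Points.repWith_surjective_iff (representable_yon_map g)).2 h)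

variable {𝒳 : AlgSt.Cat S} {V : Over S}

theorem exists_dat_at (h𝒳 : FibCat.IsFibGrpd 𝒳.p) {v : FibCat.overCat V ⥤ᵇ 𝒳}
    (hv : AlgSt.RepByAlgSpWith (LocP (@Flat ⊓ @LocallyOfFinitePresentation ⊓ @LocallyQuasiFinite) ⊓ IsSurjectiveMor ⊓
      IsSeparatedMor) v) (x : 𝒳.obj) :
    ∃ r : RepAt v x, Flat (str₀ v r.a).left ∧ LocallyOfFinitePresentation (str₀ v r.a).left ∧
      LocallyQuasiFinite (str₀ v r.a).left ∧ IsSeparated (str₀ v r.a).left ∧ Surjective (str₀ v r.a).left := by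
  obtain ⟨F, π, ⟨⟨hπ₁, hπ₂⟩, hπ₃⟩, ⟨R⟩⟩ := K738.repByAlgSpWith_iff_secRep.1 hv (𝒳.p.obj x) (yonF h𝒳 x rfl)
  have hl : LocP (@LocallyQuasiFinite ⊓ @LocallyOfFiniteType) π := K597.locP_mono (fun A B f hf => by
    obtain ⟨⟨h1, h2⟩, h3⟩ := hf
    have := h1; have := h2; have := h3
    exact ⟨inferInstance, inferInstance⟩) hπ₁
  obtain ⟨W, i, w, hw⟩ := exists_iso_yon hl hπ₃
  obtain ⟨r, hA, hr⟩ := exists_repAt v h𝒳 (yonFIso h𝒳 x rfl) (vert_yonFIso h𝒳 x rfl) (secRepOfIso R i ((yon S).map w) hw)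
  have hc : ∀ (P : MorphismProperty (Sp S)) [P.RespectsIso], P π → P ((yon S).map w) := fun P _ h =>
    (MorphismProperty.cancel_left_of_respectsIso P i.hom _).1 (by rw [hw]; exact h)
  have hA' : IsIso (eqToHom hA).left := inferInstanceAs (IsIso ((Over.forget S).map (eqToHom hA)))
  have hr' : (str₀ v r.a).left = (eqToHom hA).left ≫ w.left := by rw [hr]; rfl
  have k1 : Flat w.left := (locP_yon_etLoc K597.etLoc_flat w).1 (hc (LocP @Flat)
    (K597.locP_mono (fun A B f hf => hf.1.1) hπ₁))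
  have k2 : LocallyOfFinitePresentation w.left := (locP_yon_etLoc K597.etLoc_lfp w).1
    (hc (LocP @LocallyOfFinitePresentation) (K597.locP_mono (fun A B f hf => hf.1.2) hπ₁))
  have k3 : LocallyQuasiFinite w.left := ((K738.locP_yon_iff (Or.inr (Or.inr (Or.inr (Or.inr (Or.inr (Or.inl
    fun A B g => Iff.rfl)))))) w).1 (hc (LocP (@LocallyQuasiFinite ⊓ @LocallyOfFiniteType)) hl)).1
  have k4 : IsSeparated w.left := (isSeparatedMor_yon_map_iff w).1 (hc _ hπ₃)
  have k5 : Surjective w.left := surj_of_yon (hc _ hπ₂)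
  refine ⟨r, ?_, ?_, ?_, ?_, ?_⟩
  all_goals
    rw [hr']
    infer_instance

theorem exists_dat (h𝒳 : FibCat.IsFibGrpd 𝒳.p) {v : FibCat.overCat V ⥤ᵇ 𝒳}
    (hv : AlgSt.RepByAlgSpWith (LocP (@Flat ⊓ @LocallyOfFinitePresentation ⊓ @LocallyQuasiFinite) ⊓ IsSurjectiveMor ⊓
      IsSeparatedMor) v) :
    ∃ d : Dat v, ∀ x, Surjective (str₀ v (d.r x).a).left := by
  choose r h1 h2 h3 h4 h5 using exists_dat_at h𝒳 hv
  exact ⟨⟨h𝒳, r, h1, h2, h3, h4⟩, h5⟩

end

end K749.Hilb
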