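import Groth.Agent.AlgSt.K749.Dom
import Groth.Agent.AlgSp.K598.RepKit
import Groth.Agent.S10192
import Groth.Agent.S10193
/-!
# Factoring through a monomorphism of sheaves can be tested on an atlas; the moduli space of a reduced stack is reduced
-/

set_option autoImplicit false
set_option backward.isDefEq.respectTransparency false
set_option backward.isDefEq.respectTransparency.types false

universe w' v' w v u

open CategoryTheory CategoryTheory.Limits AlgebraicGeometry Opposite K735.Fib K735.Fp AlgSp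

namespace K749.RedMod

open K734.Fib (wl wr)

variable {S : Scheme.{u}} {N M : Sp S}

theorem app_injective (i : N ⟶ M) [Mono i] (T : Over S) : Function.Injective (i.hom.app (op T)) := by
  intro s s' h
  have h1 : K598.Site.yE.symm s ≫ i = K598.Site.yE.symm s' ≫ i := by
    apply K598.Site.yE.injective
    rw [K598.Site.yE_comp, K598.Site.yE_comp, Equiv.apply_symm_apply, Equiv.apply_symm_apply]
    exact h
  exact K598.Site.yE.symm.injective ((cancel_mono i).1 h1)

theorem obj_injective (i : N ⟶ M) [Mono i] {a b : (AlgSt.ofSp N).obj}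
    (h : (AlgSt.ofSpMap i).obj a = (AlgSt.ofSpMap i).obj b) : a = b := by
  obtain ⟨T, s⟩ := a
  obtain ⟨T', s'⟩ := b
  have h0 : T = T' := congrArg Stk.EltObj.base h
  subst h0
  have h1 : (⟨T, i.hom.app (op T) s⟩ : Stk.EltObj M.obj) = ⟨T, i.hom.app (op T) s'⟩ := h
  have h2 : i.hom.app (op T) s = i.hom.app (op T) s' := K734.Fib.elt_inj h1
  rw [app_injective i T h2]

variable {𝒳 : BasedCategory.{v', w'} (Over S)} {𝒲 : BasedCategory.{v, w} (Over S)}

/-- Factorisation through a monomorphism of sheaves is local on the source. -/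
theorem exists_lift (h𝒳 : FibCat.IsFibGrpd 𝒳.p) (h𝒲 : FibCat.IsFibGrpd 𝒲.p) {x : 𝒲 ⥤ᵇ 𝒳}
    (hl : K746.LocSurj (AlgSp.J S) x) (i : N ⟶ M) [Mono i] (π : 𝒳 ⥤ᵇ AlgSt.ofSp M) (g : 𝒲 ⥤ᵇ AlgSt.ofSp N)
    (e : Nonempty (BasedFunctor.comp g (AlgSt.ofSpMap i) ≅ BasedFunctor.comp x π)) :
    ∃ π' : 𝒳 ⥤ᵇ AlgSt.ofSp N, Nonempty (BasedFunctor.comp π' (AlgSt.ofSpMap i) ≅ π) := by
  rw [K746.nonempty_iso_ofPsh_iff] at e
  obtain ⟨Φ, hΦ⟩ := K746.exists_desc (F := x) (a := g) h𝒳 h𝒲 hl ((isSheaf_iff_isSheaf_of_type _ _).1 N.property) (by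
    intro y y' φ hφ
    apply obj_injective i
    have h1 := e y
    have h2 := e y'
    refine h1.trans (Eq.trans ?_ h2.symm)
    exact K734.Fib.eq_of_vert (hφ.map π))
  refine ⟨Φ, ?_⟩
  rw [K746.nonempty_iso_ofPsh_iff]
  refine K746.eq_of_locSurj hl ((isSheaf_iff_isSheaf_of_type _ _).1 M.property) fun y => ?_
  refine Eq.trans ?_ (e y)
  change (AlgSt.ofSpMap i).obj (Φ.obj (x.obj y)) = (AlgSt.ofSpMap i).obj (g.obj y)
  rw [hΦ]

/-- The categorical moduli space of a reduced algebraic stack is reduced. -/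
theorem isReducedSp_of_isCatModuli {𝒳 : AlgSt.Cat S} (h𝒳 : AlgSt.IsAlgStack Scheme.fppfPrecoverage 𝒳)
    (hred : AlgSt.SmoothLocally (fun X => AlgebraicGeometry.IsReduced X) 𝒳) {M : Sp S} (π : 𝒳 ⥤ᵇ AlgSt.ofSp M)
    (hπ : AlgSt.IsCatModuli π) : IsReducedSp M := by
  obtain ⟨hM, hu⟩ := hπ
  obtain ⟨Z, i, hi, hr, ⟨V, p, hp₁, hp₂, hV⟩⟩ := Groth.Agent.S10192.result ⟨M, hM⟩ Set.univ isClosed_univ
  have hmono : Mono i.hom := K598.RepKit.mono_of_repWith_isClosedImmersion hi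
  obtain ⟨U, x, hx, hx'⟩ := h𝒳.atlas
  have hU : AlgebraicGeometry.IsReduced U.left := hred U x hx
  have hl := K749.Dom.locSurj_of_fppf h𝒳.isStack.1 x
    (K739.Alg.repByAlgSpWith_mono (fun _ _ _ h => K597.locP_mono (fun A B f hf => by
      have := hf
      infer_instance) h) hx)
    (K739.Alg.repByAlgSpWith_mono (fun _ _ _ h => K597.locP_mono (fun A B f hf => by
      have := hf
      infer_instance) h) hx) hx'
  let a := K735.SpFp.unchart (BasedFunctor.comp x π)
  obtain ⟨c⟩ := K735.SpFp.exists_iso_chart (BasedFunctor.comp x π)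
  have hY : IsReducedSp ((ofScheme S).obj U).obj := by
    refine ⟨U, 𝟙 _, MorphismProperty.id_mem _ _, ?_, hU⟩
    exact MorphismProperty.id_mem _ _
  obtain ⟨g, hg⟩ := (Groth.Agent.S10193.result (Y := (ofScheme S).obj U) i hi hY (ObjectProperty.homMk a)).2 (by
    rw [hr]; exact Set.subset_univ _)
  have hg' : g.hom ≫ i.hom = a := congrArg (fun t => t.hom) hg
  obtain ⟨π', ⟨e'⟩⟩ := exists_lift h𝒳.isStack.1 (isFibGrpd_overCat U) hl i.hom π (K735.SpFp.chart g.hom)
    ⟨eqToIso ((K735.SpFp.chart_comp g.hom i.hom).trans (by rw [hg'])) ≪≫ c.symm⟩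
  obtain ⟨g', ⟨j⟩, -⟩ := hu Z.obj Z.property π'
  have h1 : g' ≫ i.hom = 𝟙 M := by
    refine (hu M hM π).unique ⟨?_⟩ ⟨?_⟩
    · have k1 : BasedFunctor.comp (BasedFunctor.comp π (AlgSt.ofSpMap g')) (AlgSt.ofSpMap i.hom) ≅
        BasedFunctor.comp π' (AlgSt.ofSpMap i.hom) := wr j _
      exact k1 ≪≫ e'
    · exact Iso.refl _
  have h2 : IsIso i.hom := by
    refine ⟨g', ?_, h1⟩
    rw [← cancel_mono i.hom, Category.assoc, h1, Category.comp_id, Category.id_comp]
  exact ⟨V, p ≫ i.hom, MorphismProperty.RespectsIso.postcomp _ _ _ hp₁, MorphismProperty.RespectsIso.postcomp _ _ _ hp₂,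
    hV⟩

end K749.RedMod
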