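import Groth.Agent.AlgSt.K749.Dom
import Groth.Agent.Gerb.K895.Band
import Groth.Agent.Stk.K751.Test
import Groth.Agent.AlgSp.K634.Desc
/-!
# Isomorphism classes of objects of an algebraic stack over an affine scheme form a small set
-/

set_option autoImplicit false
set_option backward.isDefEq.respectTransparency false
set_option backward.isDefEq.respectTransparency.types false

universe w' v' w v u

open CategoryTheory CategoryTheory.Limits AlgebraicGeometry Opposite K735.Fib K735.Fp AlgSp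

namespace K749.SmallCls

section General

variable {C : Type u} [Category.{v} C] {J : GrothendieckTopology C} {𝒳 : BasedCategory.{v', w'} C}

theorem exists_vert_of_rel (h : Stk.IsPrestack J 𝒳) {x x' ξ : 𝒳.obj} (hx : 𝒳.p.obj x' = 𝒳.p.obj x)
    (θ : ξ ⟶ x) (θ' : ξ ⟶ x') (hθ : 𝒳.p.map θ' = 𝒳.p.map θ ≫ eqToHom hx.symm)
    (hk : Sieve.generate (Presieve.singleton (𝒳.p.map θ)) ∈ J (𝒳.p.obj x))
    (hrel : ∀ ⦃z : 𝒳.obj⦄ (a b : z ⟶ ξ), a ≫ θ = b ≫ θ → a ≫ θ' = b ≫ θ') :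
    ∃ b : x ⟶ x', 𝒳.p.IsHomLift (𝟙 (𝒳.p.obj x)) b := by
  have hθ' : 𝒳.p.IsHomLift (𝒳.p.map θ) θ' := by
    refine IsHomLift.of_fac' _ _ _ rfl hx ?_
    rw [hθ]
    simp
  refine (K895.Band.glue_hom' h rfl hx _ hk
    (fun y φ ψ => ∃ c : y ⟶ ξ, c ≫ θ = φ ∧ c ≫ θ' = ψ) ?_ ?_ ?_ ?_).imp fun b hb => hb.1
  · rintro y φ ψ ⟨c, rfl, rfl⟩ V f hf
    obtain rfl := IsHomLift.domain_eq 𝒳.p f (c ≫ θ)
    have h1 : f = 𝒳.p.map c ≫ 𝒳.p.map θ := by
      rw [← Functor.map_comp]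
      exact IsHomLift.eq_of_isHomLift 𝒳.p f (c ≫ θ)
    rw [h1]
    have : 𝒳.p.IsHomLift (𝒳.p.map c) c := IsHomLift.map 𝒳.p c
    infer_instance
  · rintro V _ ⟨V', l, _, ⟨⟩, rfl⟩
    obtain ⟨z, c, e, hc⟩ := exists_lift h.1 (x := ξ) l
    have h1 : 𝒳.p.IsHomLift l c := IsHomLift.of_fac' _ _ _ e rfl (by rw [hc]; simp)
    have h2 : 𝒳.p.IsHomLift (𝒳.p.map θ) θ := IsHomLift.map 𝒳.p θ
    exact ⟨z, c ≫ θ, c ≫ θ', inferInstance, c, rfl, rfl⟩
  · rintro z y χ φ ψ ⟨c, rfl, rfl⟩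
    exact ⟨χ ≫ c, Category.assoc _ _ _, Category.assoc _ _ _⟩
  · rintro y φ ψ ψ' ⟨c, hc, rfl⟩ ⟨c', hc', rfl⟩
    exact hrel c c' (hc.trans hc'.symm)

theorem rel_of_pair (h : FibCat.IsFibGrpd 𝒳.p) {x x' ξ ξ₁ : 𝒳.obj} (θ : ξ ⟶ x) (θ' : ξ ⟶ x') (a₁ b₁ : ξ₁ ⟶ ξ)
    (sq : IsPullback (𝒳.p.map a₁) (𝒳.p.map b₁) (𝒳.p.map θ) (𝒳.p.map θ))
    (h1 : a₁ ≫ θ = b₁ ≫ θ) (h2 : a₁ ≫ θ' = b₁ ≫ θ') ⦃z : 𝒳.obj⦄ (a b : z ⟶ ξ) (hab : a ≫ θ = b ≫ θ) :
    a ≫ θ' = b ≫ θ' := by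
  have hw : 𝒳.p.map a ≫ 𝒳.p.map θ = 𝒳.p.map b ≫ 𝒳.p.map θ := by
    rw [← Functor.map_comp, hab, Functor.map_comp]
  obtain ⟨c, hc1, hc2⟩ := exists_hom h a₁ a (sq.lift _ _ hw) (sq.lift_fst _ _ _)
  have hb : c ≫ b₁ = b := by
    apply hom_ext' h θ
    · rw [Functor.map_comp, hc1, sq.lift_snd]
    · rw [Category.assoc, ← h1, ← Category.assoc, hc2, hab]
  rw [← hb, Category.assoc, ← h2, ← Category.assoc, hc2]

end General

section Cover

variable {S : Scheme.{u}} (A : Type u) [CommRing A] (t : Spec (CommRingCat.of A) ⟶ S)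

/-- Indices of the finite type algebras over `A`. -/
abbrev Idx : Type u := Σ n : ℕ, Ideal (MvPolynomial (Fin n) A)

variable {A}

/-- The algebra. -/
abbrev Alg (c : Idx A) : Type u := MvPolynomial (Fin c.1) A ⧸ c.2

/-- The spectrum. -/
noncomputable abbrev cov (c : Idx A) : Over S := Over.mk (Spec.map (CommRingCat.ofHom (algebraMap A (Alg c))) ≫ t)

/-- The structure morphism. -/
noncomputable abbrev covMap (c : Idx A) : cov t c ⟶ Over.mk t := Over.homMk (Spec.map (CommRingCat.ofHom (algebraMap A (Alg c)))) rfl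

theorem eq_isoSpec_comp {X : Scheme.{u}} [IsAffine X] {R : CommRingCat.{u}} (f : X ⟶ Spec R) :
    f = X.isoSpec.hom ≫ Spec.map ((Scheme.ΓSpecIso R).inv ≫ f.appTop) := by
  have h1 : f ≫ Spec.map (Scheme.ΓSpecIso R).hom = X.toSpecΓ ≫ Spec.map f.appTop := by
    rw [SpecMap_ΓSpecIso_hom]
    exact Scheme.toSpecΓ_naturality f
  have h2 : f = (f ≫ Spec.map (Scheme.ΓSpecIso R).hom) ≫ Spec.map (Scheme.ΓSpecIso R).inv := by
    rw [Category.assoc, ← Spec.map_comp, Iso.inv_hom_id, Spec.map_id, Category.comp_id]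
  rw [Spec.map_comp, ← Category.assoc]
  exact h2.trans (congrArg (fun g => g ≫ Spec.map (Scheme.ΓSpecIso R).inv) h1)

theorem exists_idx {W : Over S} (w : W ⟶ Over.mk t) [IsAffine W.left] [LocallyOfFiniteType w.left] :
    ∃ (c : Idx A) (j : cov t c ⟶ W), IsIso j ∧ j ≫ w = covMap t c := by
  let φ : CommRingCat.of A ⟶ Γ(W.left, ⊤) := (Scheme.ΓSpecIso (CommRingCat.of A)).inv ≫ w.left.appTop
  have hw : w.left = W.left.isoSpec.hom ≫ Spec.map φ := eq_isoSpec_comp (R := CommRingCat.of A) w.left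
  have h1 : LocallyOfFiniteType (Spec.map φ) := by
    have h2 : LocallyOfFiniteType (W.left.isoSpec.hom ≫ Spec.map φ) := by rw [← hw]; infer_instance
    exact (MorphismProperty.cancel_left_of_respectsIso @LocallyOfFiniteType _ _).1 h2
  have h2 : φ.hom.FiniteType := (HasRingHomProperty.Spec_iff (P := @LocallyOfFiniteType)).1 h1
  let _ := φ.hom.toAlgebra
  have h3 : Algebra.FiniteType A Γ(W.left, ⊤) := h2
  obtain ⟨n, f, hf⟩ := Algebra.FiniteType.iff_quotient_mvPolynomial''.1 h3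
  let c : Idx A := ⟨n, RingHom.ker f⟩
  let e : Alg c ≃ₐ[A] Γ(W.left, ⊤) := Ideal.quotientKerAlgEquivOfSurjective hf
  let e' : CommRingCat.of (Alg c) ≅ Γ(W.left, ⊤) := e.toRingEquiv.toCommRingCatIso
  have he : CommRingCat.ofHom (algebraMap A (Alg c)) ≫ e'.hom = φ := by
    ext a
    exact e.commutes a
  let j₀ : Spec (CommRingCat.of (Alg c)) ⟶ W.left := Spec.map e'.inv ≫ W.left.isoSpec.inv
  have hj₀ : j₀ ≫ w.left = Spec.map (CommRingCat.ofHom (algebraMap A (Alg c))) := by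
    rw [hw, ← he, Spec.map_comp]
    simp only [j₀, Category.assoc, Iso.inv_hom_id_assoc]
    rw [← Spec.map_comp_assoc, Iso.hom_inv_id, Spec.map_id, Category.id_comp]
  have hj₁ : IsIso j₀ := inferInstance
  let j : cov t c ⟶ W := Over.homMk j₀ (by
    rw [← Over.w w, ← Category.assoc, hj₀]
    rfl)
  refine ⟨c, j, ?_, Over.OverMorphism.ext hj₀⟩
  have : IsIso ((Over.forget S).map j) := hj₁
  exact isIso_of_reflects_iso j (Over.forget S)

end Cover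

section Main

variable {S : Scheme.{u}} {𝒳 : AlgSt.Cat S} {A : Type u} [CommRing A] {t : Spec (CommRingCat.of A) ⟶ S}
  {U : Over S} (x : FibCat.overCat U ⥤ᵇ 𝒳)

/-- The object over the cover given by a map to the atlas. -/
noncomputable abbrev ξ {c : Idx A} (u : cov t c ⟶ U) : 𝒳.obj := x.obj (Over.mk u)

/-- Data presenting an object over `Spec A`. -/
structure Pres {c : Idx A} (u : cov t c ⟶ U) {ξ₁ : 𝒳.obj} (e₁ : 𝒳.p.obj ξ₁ = pullback (covMap t c) (covMap t c))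
    (a b : ξ₁ ⟶ ξ x u) (X : 𝒳.obj) where
  hX : 𝒳.p.obj X = Over.mk t
  θ : ξ x u ⟶ X
  fppf : K595.RepDesc.Fppf (covMap t c).left
  map_θ : 𝒳.p.map θ = eqToHom (x.w_obj (Over.mk u)) ≫ covMap t c ≫ eqToHom hX.symm
  map_a : 𝒳.p.map a = eqToHom e₁ ≫ pullback.fst (covMap t c) (covMap t c) ≫ eqToHom (x.w_obj (Over.mk u)).symm
  map_b : 𝒳.p.map b = eqToHom e₁ ≫ pullback.snd (covMap t c) (covMap t c) ≫ eqToHom (x.w_obj (Over.mk u)).symm
  rel : a ≫ θ = b ≫ θ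

theorem isIso_left {X Y : Over S} (h : X = Y) : IsIso (eqToHom h).left :=
  inferInstanceAs (IsIso ((Over.forget S).map (eqToHom h)))

theorem Pres.exists_vert (h𝒳 : Stk.IsPrestack (AlgSp.J S) 𝒳) {c : Idx A} {u : cov t c ⟶ U} {ξ₁ : 𝒳.obj}
    {e₁ : 𝒳.p.obj ξ₁ = pullback (covMap t c) (covMap t c)} {a b : ξ₁ ⟶ ξ x u} {X X' : 𝒳.obj}
    (P : Pres x u e₁ a b X) (P' : Pres x u e₁ a b X') :
    ∃ m : X ⟶ X', 𝒳.p.IsHomLift (𝟙 (𝒳.p.obj X)) m := by
  obtain ⟨⟨hs, hf⟩, hl⟩ := P.fppf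
  have hs' := hs; have hf' := hf; have hl' := hl
  have i1 := isIso_left (x.w_obj (Over.mk u))
  have i2 := isIso_left P.hX.symm
  have hl : (𝒳.p.map P.θ).left = (eqToHom (x.w_obj (Over.mk u))).left ≫ (covMap t c).left ≫ (eqToHom P.hX.symm).left := by
    rw [P.map_θ]; rfl
  refine exists_vert_of_rel h𝒳 (P'.hX.trans P.hX.symm) P.θ P'.θ ?_ ?_ ?_
  · rw [P.map_θ, P'.map_θ]
    simp only [Category.assoc, eqToHom_trans]
  · have f1 : Flat (𝒳.p.map P.θ).left := by rw [hl]; infer_instance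
    have f2 : LocallyOfFinitePresentation (𝒳.p.map P.θ).left := by rw [hl]; infer_instance
    have f3 : Surjective (𝒳.p.map P.θ).left := by rw [hl]; infer_instance
    exact K598.Site.mem_J_of_single (𝒳.p.map P.θ) ⟨_, 𝟙 _, _, Presieve.singleton_self _, Category.id_comp _⟩
  · refine rel_of_pair h𝒳.1 P.θ P'.θ a b ?_ P.rel P'.rel
    rw [P.map_a, P.map_b, P.map_θ]
    have sq := IsPullback.of_hasPullback (covMap t c) (covMap t c)
    exact sq.of_iso (eqToIso e₁.symm) (eqToIso (x.w_obj (Over.mk u)).symm) (eqToIso (x.w_obj (Over.mk u)).symm)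
      (eqToIso P.hX.symm) (by simp) (by simp) (by simp) (by simp)

theorem exists_pres (hx₁ : AlgSt.RepByAlgSpWith (LocP @Flat) x)
    (hx₂ : AlgSt.RepByAlgSpWith (LocP @LocallyOfFinitePresentation) x)
    (hx₃ : AlgSt.RepByAlgSpWith IsSurjectiveMor x) (y : FibCat.overCat (Over.mk t) ⥤ᵇ 𝒳) :
    ∃ (c : Idx A) (u : cov t c ⟶ U) (θ : ξ x u ⟶ y.obj (idObj _)), K595.RepDesc.Fppf (covMap t c).left ∧
      𝒳.p.map θ = eqToHom (x.w_obj (Over.mk u)) ≫ covMap t c ≫ eqToHom (y.w_obj (idObj _)).symm := by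
  obtain ⟨V', k', v, ⟨⟨hs, hf⟩, hl⟩, ⟨α⟩⟩ := K739.Descent.exists_fppf_lift x hx₁ hx₂ hx₃ y
  have hs' := hs; have hf' := hf; have hl' := hl
  have : CompactSpace ↥(Over.mk t : Over S).left := inferInstanceAs (CompactSpace ↥(Spec (CommRingCat.of A)))
  obtain ⟨W', g, hW', hg, hgs⟩ := K634.Desc.exists_affine_refinement k'.left k'.left.isOpenMap
  let W : Over S := Over.mk (g ≫ V'.hom)
  let g' : W ⟶ V' := Over.homMk g rfl
  let w : W ⟶ Over.mk t := g' ≫ k'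
  have w1 : Flat w.left := inferInstanceAs (Flat (g ≫ k'.left))
  have w2 : LocallyOfFinitePresentation w.left := inferInstanceAs (LocallyOfFinitePresentation (g ≫ k'.left))
  have w3 : Surjective w.left := hgs
  have : IsAffine W.left := hW'
  obtain ⟨c, j, hj, hjw⟩ := exists_idx t w
  let m : cov t c ⟶ V' := j ≫ g'
  have hm : m ≫ k' = covMap t c := by rw [← hjw]; exact Category.assoc _ _ _
  have hj' : IsIso j.left := inferInstance
  have hk : (covMap t c).left = j.left ≫ w.left := by rw [← hjw]; rfl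
  let u : cov t c ⟶ U := eqToHom (v.w_obj (Over.mk m)).symm ≫ (v.obj (Over.mk m)).hom
  let i : (Over.mk u : Over U) ⟶ v.obj (Over.mk m) := Over.homMk (eqToHom (v.w_obj (Over.mk m)).symm) rfl
  refine ⟨c, u, x.map i ≫ (isoApp α (Over.mk m)).hom ≫ y.map (toId (Over.mk (m ≫ k'))), ?_, ?_⟩
  · rw [hk]
    exact ⟨⟨inferInstance, inferInstance⟩, inferInstance⟩
  · rw [Functor.map_comp, Functor.map_comp, (vert_isoApp α (Over.mk m)).map_eq, map_map, map_map]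
    have e1 : (toId (Over.mk (m ≫ k') : Over (Over.mk t : Over S))).left = covMap t c := hm
    rw [← hm]
    have e2 : (FibCat.overCat U).p.map i = eqToHom (v.w_obj (Over.mk m)).symm := rfl
    have e3 : (FibCat.overCat (Over.mk t : Over S)).p.map (toId (Over.mk (m ≫ k'))) = m ≫ k' := rfl
    rw [e2, e3]
    simp only [Category.assoc, eqToHom_trans_assoc]

/-- Objects of a stack with an atlas over an affine scheme form a small set up to isomorphism. -/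
theorem exists_small (h𝒳 : Stk.IsPrestack (AlgSp.J S) 𝒳) (hx₁ : AlgSt.RepByAlgSpWith (LocP @Flat) x)
    (hx₂ : AlgSt.RepByAlgSpWith (LocP @LocallyOfFinitePresentation) x)
    (hx₃ : AlgSt.RepByAlgSpWith IsSurjectiveMor x) :
    ∃ (I : Type u) (F : I → (FibCat.overCat (Over.mk t) ⥤ᵇ 𝒳)),
      ∀ y : FibCat.overCat (Over.mk t) ⥤ᵇ 𝒳, ∃ i, Nonempty (F i ≅ y) := by
  choose ξ₁ a e₁ ha using fun (c : Idx A) (u : cov t c ⟶ U) =>
    exists_lift_eq h𝒳.1 (x := ξ x u) (x.w_obj (Over.mk u)) (pullback.fst (covMap t c) (covMap t c))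
  let I₀ : Type u := Σ (c : Idx A) (u : cov t c ⟶ U), (ξ₁ c u ⟶ ξ x u)
  let R : I₀ → 𝒳.obj → Prop := fun i X => Nonempty (Pres x i.2.1 (e₁ i.1 i.2.1) (a i.1 i.2.1) i.2.2 X)
  let I : Type u := {i : I₀ // ∃ X, R i X}
  choose X hX using fun i : I => i.2
  refine ⟨I, fun i => yonF h𝒳.1 (X i) (hX i).some.hX, fun y => ?_⟩
  obtain ⟨c, u, θ, hfp, hθ⟩ := exists_pres x hx₁ hx₂ hx₃ y
  obtain ⟨b, hb1, hb2⟩ := exists_hom h𝒳.1 θ (a c u ≫ θ)
    (eqToHom (e₁ c u) ≫ pullback.snd (covMap t c) (covMap t c) ≫ eqToHom (x.w_obj (Over.mk u)).symm) (by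
      rw [Functor.map_comp, hθ, ha]
      simp only [Category.assoc, eqToHom_trans_assoc, eqToHom_refl, Category.id_comp]
      rw [pullback.condition_assoc])
  let P : Pres x u (e₁ c u) (a c u) b (y.obj (idObj _)) := ⟨y.w_obj (idObj _), θ, hfp, hθ, ha c u, hb1, hb2.symm⟩
  let i : I := ⟨⟨c, u, b⟩, _, ⟨P⟩⟩
  obtain ⟨m, hm⟩ := (hX i).some.exists_vert x h𝒳 P
  refine ⟨i, ⟨yonIso h𝒳.1 _ _ ((yonFIso h𝒳.1 (X i) (hX i).some.hX).hom ≫ m) ?_⟩⟩
  exact (vert_yonFIso h𝒳.1 (X i) (hX i).some.hX).comp hm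

/-- S18326 style form for an algebraic stack. -/
theorem exists_small_of_isAlgStack (h𝒳 : AlgSt.IsAlgStack Scheme.fppfPrecoverage 𝒳) :
    ∃ (I : Type u) (F : I → (FibCat.overCat (Over.mk t) ⥤ᵇ 𝒳)),
      ∀ y : FibCat.overCat (Over.mk t) ⥤ᵇ 𝒳, ∃ i, Nonempty (F i ≅ y) := by
  obtain ⟨U, x, hx, hx'⟩ := h𝒳.atlas
  exact exists_small x (K751.Test.isPrestack_of_isStack h𝒳.isStack)
    (K739.Alg.repByAlgSpWith_mono (fun _ _ _ h => K597.locP_mono (fun A B f hf => by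
      have := hf
      infer_instance) h) hx)
    (K739.Alg.repByAlgSpWith_mono (fun _ _ _ h => K597.locP_mono (fun A B f hf => by
      have := hf
      infer_instance) h) hx) hx'

end Main

end K749.SmallCls
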